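import Mathlib
import Cfsg.Agent.Lib.PGroup.Basic
import Cfsg.Agent.Lib.PGroup.CyclicMaximal
import Cfsg.Agent.Lib.Frobenius.Fpf

/-! An odd `p`-group acting faithfully on an elementary abelian group with all stabilisers of
nonzero elements of one order is cyclic and acts fixed-point-freely. -/

set_option autoImplicit false

open MulAction

namespace CfsgLib.RankOne.ConstStab

section elementary

variable {P : Type*} [Group P] [Finite P] {p : ℕ} [hp : Fact p.Prime]

theorem exists_normal_exponent_prime (hp2 : p ≠ 2) (hP : IsPGroup p P) (hnc : ¬ IsCyclic P) :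
    ∃ T : Subgroup P, T.Normal ∧ (∀ x ∈ T, x ^ p = 1) ∧ p < Nat.card T := by
  obtain ⟨A, hAmax⟩ := (Set.toFinite {A : Subgroup P | A.Normal ∧ IsMulCommutative A}).exists_maximal
    ⟨⊥, inferInstance, inferInstance⟩
  obtain ⟨⟨hAn, hAc⟩, hmax⟩ := hAmax
  have hsq : p < p ^ 2 := by
    have := hp.out.two_le
    nlinarith
  by_cases hA : IsCyclic A
  · have hC := CfsgLib.PGroup.centralizer_eq_of_maximal_normal_abelian hP A hAc
      (fun B hB hBc hle => le_antisymm (hmax ⟨hB, hBc⟩ hle) hle)
    have hne : A < ⊤ := lt_top_iff_ne_top.2 fun h => hnc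
      (isCyclic_of_surjective A.subtype (fun x => ⟨⟨x, h ▸ Subgroup.mem_top x⟩, rfl⟩))
    obtain ⟨x, -, hxA, hxp, hxc⟩ := CfsgLib.PGroup.exists_step hP A ⊤ hne
    set B := A ⊔ Subgroup.zpowers x with hB
    have hBn : B.Normal := CfsgLib.PGroup.sup_zpowers_normal hxc
    have hAB : A ≤ B := le_sup_left
    have hxB : x ∈ B := Subgroup.mem_sup_right (Subgroup.mem_zpowers x)
    have hBnc : ¬ IsCyclic B := fun h => by
      letI := h.commGroup
      refine hxA (hC ▸ Subgroup.mem_centralizer_iff.2 fun a ha => ?_)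
      exact congrArg Subtype.val (mul_comm (⟨a, hAB ha⟩ : B) ⟨x, hxB⟩)
    have hAc' : IsCyclic (A.subgroupOf B) :=
      isCyclic_of_surjective (Subgroup.subgroupOfEquivOfLe hAB).symm.toMonoidHom
        (Subgroup.subgroupOfEquivOfLe hAB).symm.surjective
    have hAi : (A.subgroupOf B).index = p := by
      have h1 := (A.subgroupOf B).card_mul_index
      rw [Nat.card_congr (Subgroup.subgroupOfEquivOfLe hAB).toEquiv,
        CfsgLib.PGroup.card_sup_zpowers hxA hxp, mul_comm p] at h1
      exact Nat.eq_of_mul_eq_mul_left Nat.card_pos h1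
    obtain ⟨K, hKcard, hK⟩ := CfsgLib.PGroup.omega_of_cyclic_index_prime hp2 (hP.to_subgroup B) hBnc
      (A.subgroupOf B) hAc' hAi
    refine ⟨K.map B.subtype, ⟨fun y hy g => ?_⟩, fun y hy => ?_, ?_⟩
    · obtain ⟨y, hy, rfl⟩ := hy
      refine ⟨⟨g * (y : P) * g⁻¹, hBn.conj_mem _ y.2 g⟩, (hK _).2 (Subtype.ext ?_), rfl⟩
      have h : (y : P) ^ p = 1 := congrArg Subtype.val ((hK y).1 hy)
      simp [conj_pow, h]
    · obtain ⟨y, hy, rfl⟩ := hy
      exact congrArg Subtype.val ((hK y).1 hy)
    · rw [Subgroup.card_map_of_injective B.subtype_injective, hKcard]; exact hsq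
  · obtain ⟨l, hl, E, hEA, hE, hexp⟩ := CfsgLib.Frobenius.exists_elementary_of_not_isCyclic hA
    have hlp : l = p := by
      obtain ⟨k, hk⟩ := IsPGroup.iff_card.1 (hP.to_subgroup E)
      have hd : l ∣ p ^ k := hk ▸ hE ▸ dvd_pow_self l two_ne_zero
      exact (Nat.prime_dvd_prime_iff_eq hl hp.out).1 (hl.dvd_of_dvd_pow hd)
    subst hlp
    haveI := hAn
    let T : Subgroup P :=
      { carrier := {y | y ∈ A ∧ y ^ l = 1}
        one_mem' := ⟨A.one_mem, one_pow l⟩
        mul_mem' := fun {y z} hy hz => ⟨A.mul_mem hy.1 hz.1, by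
          rw [(show Commute y z from setLike_mul_comm hy.1 hz.1).mul_pow, hy.2, hz.2, one_mul]⟩
        inv_mem' := fun {y} hy => ⟨A.inv_mem hy.1, by rw [inv_pow, hy.2, inv_one]⟩ }
    refine ⟨T, ⟨fun y hy g => ⟨hAn.conj_mem _ hy.1 g, by
      rw [conj_pow, hy.2, mul_one, mul_inv_cancel]⟩⟩, fun y hy => hy.2, ?_⟩
    calc l < l ^ 2 := hsq
      _ = Nat.card E := hE.symm
      _ ≤ Nat.card T := Nat.le_of_dvd Nat.card_pos
          (Subgroup.card_dvd_of_le fun y hy => ⟨hEA hy, hexp y hy⟩)

theorem exists_central_and_noncentral (hp2 : p ≠ 2) (hP : IsPGroup p P) (hnc : ¬ IsCyclic P) :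
    ∃ z e : P, z ∈ Subgroup.center P ∧ orderOf z = p ∧ e ^ p = 1 ∧ e ∉ Subgroup.zpowers z ∧
      ∀ g : P, ∃ i : ℕ, g * e * g⁻¹ = e * z ^ i := by
  obtain ⟨T, hTn, hexp, hcard⟩ := exists_normal_exponent_prime hp2 hP hnc
  have hne : T ≠ ⊥ := fun h => by
    rw [h, Subgroup.card_bot] at hcard
    exact absurd hcard (not_lt.2 hp.out.one_lt.le)
  obtain ⟨z, hzT, hzc, hz⟩ := CfsgLib.PGroup.exists_central_orderOf_eq hP T hne
  have hn : (Subgroup.zpowers z).Normal :=
    ⟨fun y hy g => by
      obtain ⟨k, rfl⟩ := hy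
      rw [Subgroup.mem_center_iff.1 (Subgroup.zpow_mem _ hzc k) g, mul_inv_cancel_right]
      exact Subgroup.zpow_mem_zpowers z k⟩
  have hlt : Subgroup.zpowers z < T := lt_of_le_of_ne (Subgroup.zpowers_le.2 hzT) fun h => by
    rw [← h, Nat.card_zpowers, hz] at hcard
    exact lt_irrefl _ hcard
  obtain ⟨e, heT, he, -, hec⟩ := CfsgLib.PGroup.exists_step hP (Subgroup.zpowers z) T hlt
  refine ⟨z, e, hzc, hz, hexp e heT, he, fun g => ?_⟩
  have h := hn.conj_mem _ (hec g) e⁻¹
  have h' : g * e⁻¹ * g⁻¹ * e ∈ Subgroup.zpowers z := by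
    rw [commutatorElement_def] at h
    have e1 : e⁻¹ * (e * g * e⁻¹ * g⁻¹) * e⁻¹⁻¹ = g * e⁻¹ * g⁻¹ * e := by group
    rwa [e1] at h
  have h'' := Subgroup.inv_mem _ h'
  obtain ⟨i, hi : z ^ i = (g * e⁻¹ * g⁻¹ * e)⁻¹⟩ :=
    (isOfFinOrder_of_finite z).mem_powers_iff_mem_zpowers.2 h''
  exact ⟨i, by rw [hi]; group⟩

end elementary

variable {P E : Type*} [Group P] [Finite P] [AddCommGroup E] [Finite E] [DistribMulAction P E]

/-- The sum over the powers of `g`. -/
def avg (p : ℕ) (g : P) : E →+ E := ∑ k ∈ Finset.range p, DistribMulAction.toAddMonoidHom E (g ^ k)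

omit [Finite P] [Finite E] in
theorem avg_apply (p : ℕ) (g : P) (v : E) : avg p g v = ∑ k ∈ Finset.range p, g ^ k • v := by
  simp [avg, AddMonoidHom.finsetSum_apply]

omit [Finite P] [Finite E] in
theorem avg_fixed {p : ℕ} {g : P} (hg : g ^ p = 1) (v : E) : g • avg p g v = avg p g v := by
  rw [avg_apply, Finset.smul_sum]
  simp only [← mul_smul, ← pow_succ']
  have h1 := Finset.sum_range_succ' (fun k => g ^ k • v) p
  have h2 := Finset.sum_range_succ (fun k => g ^ k • v) p
  rw [h2, hg] at h1
  simp only [pow_zero, one_smul] at h1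
  exact (add_right_cancel h1).symm

omit [Finite P] [Finite E] in
theorem avg_of_fixed {p : ℕ} {g : P} {v : E} (hv : g • v = v) : avg p g v = p • v := by
  have : ∀ k : ℕ, g ^ k • v = v := fun k => (pow_mem (show g ∈ stabilizer P v from hv) k)
  simp [avg_apply, this]

omit [Finite P] [Finite E] in
theorem avg_commute {p : ℕ} {g h : P} (hc : Commute g h) (v : E) :
    avg p g (h • v) = h • avg p g v := by
  simp only [avg_apply, Finset.smul_sum, ← mul_smul, (hc.pow_left _).eq]

section main

variable {p q : ℕ} [hp : Fact p.Prime] [FaithfulSMul P E]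
  (hP : IsPGroup p P) (hq : q.Prime) (hE : ∀ e : E, q • e = 0)
  (hconst : ∀ a b : E, a ≠ 0 → b ≠ 0 → Nat.card (stabilizer P a) = Nat.card (stabilizer P b))

include hP hq hE hconst

theorem eq_one_or_coprime (hnt : Nontrivial P) : ∀ v : E, p • v = 0 → v = 0 := by
  intro v hv
  by_contra hv0
  have hqp : q = p := by
    have h1 : addOrderOf v ∣ p := addOrderOf_dvd_of_nsmul_eq_zero hv
    have h2 : addOrderOf v ∣ q := addOrderOf_dvd_of_nsmul_eq_zero (hE v)
    have h3 : addOrderOf v ≠ 1 := by simpa using hv0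
    exact ((Nat.dvd_prime hq).1 h2 |>.resolve_left h3).symm.trans
      ((Nat.dvd_prime hp.out).1 h1 |>.resolve_left h3)
  subst hqp
  have hd : q ∣ Nat.card E := by
    have h : addOrderOf v = q := ((Nat.dvd_prime hq).1 (addOrderOf_dvd_of_nsmul_eq_zero (hE v))).resolve_left
      (by simpa using hv0)
    rw [← h]; exact addOrderOf_dvd_natCard v
  obtain ⟨b, hb, hb0⟩ := hP.exists_fixed_point_of_prime_dvd_card_of_fixed_point E hd
    (a := (0 : E)) (fun g => smul_zero g)
  have hall : ∀ (g : P) (a : E), g • a = a := by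
    intro g a
    by_cases ha : a = 0
    · rw [ha, smul_zero]
    have hb' : stabilizer P b = ⊤ := eq_top_iff.2 fun g _ => hb g
    have : stabilizer P a = ⊤ := Subgroup.eq_top_of_card_eq _ (by
      rw [hconst a b ha hb0.symm, hb', Subgroup.card_top])
    exact (this ▸ Subgroup.mem_top g : g ∈ stabilizer P a)
  obtain ⟨g, hg⟩ := exists_ne (1 : P)
  exact hg (FaithfulSMul.eq_of_smul_eq_smul fun a : E => by rw [hall g a, one_smul])

theorem central_fpf {z : P} (hzc : z ∈ Subgroup.center P) (hz : orderOf z = p) {v : E}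
    (hv : z • v = v) : v = 0 := by
  by_contra hv0
  have hz1 : z ≠ 1 := fun h => hp.out.ne_one (by rw [← hz, h, orderOf_one])
  have hnt : Nontrivial P := ⟨⟨z, 1, hz1⟩⟩
  have hcop := eq_one_or_coprime hP hq hE hconst hnt
  have hzp : z ^ p = 1 := hz ▸ pow_orderOf_eq_one z
  -- every vector in the kernel of the average vanishes
  have hker : ∀ w : E, avg p z w = 0 → w = 0 := by
    intro w hw
    by_contra hw0
    have hcomm : ∀ g : P, Commute z g := fun g => (Subgroup.mem_center_iff.1 hzc g).symm
    have hstab : stabilizer P (v + w) = stabilizer P v ⊓ stabilizer P w := by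
      ext g
      simp only [Subgroup.mem_inf, mem_stabilizer_iff, smul_add]
      refine ⟨fun h => ?_, fun h => by rw [h.1, h.2]⟩
      have hd : g • v - v = w - g • w := by
        rw [sub_eq_sub_iff_add_eq_add, h, add_comm]
      have hfix : z • (g • v - v) = g • v - v := by
        rw [smul_sub, ← mul_smul, (hcomm g).eq, mul_smul, hv]
      have h0 : g • v - v = 0 := hcop _ (by
        rw [← avg_of_fixed hfix, hd, map_sub, avg_commute (hcomm g), hw, smul_zero, sub_zero])
      rw [hd, sub_eq_zero] at h0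
      exact ⟨add_right_cancel (h.trans (congrArg (v + ·) h0)), h0.symm⟩
    have hvw : v + w ≠ 0 := fun h => by
      have := congrArg (avg p z) h
      rw [map_add, map_zero, hw, add_zero, avg_of_fixed hv] at this
      exact hv0 (hcop v this)
    have h1 : stabilizer P (v + w) = stabilizer P v :=
      Subgroup.eq_of_le_of_card_ge (hstab.le.trans inf_le_left) (hconst v (v + w) hv0 hvw).le
    have h2 : stabilizer P (v + w) = stabilizer P w :=
      Subgroup.eq_of_le_of_card_ge (hstab.le.trans inf_le_right) (hconst w (v + w) hw0 hvw).le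
    have hzw : z • w = w := by
      have : z ∈ stabilizer P v := hv
      rw [← h1, h2] at this; exact this
    exact hw0 (hcop w (by rw [← avg_of_fixed hzw, hw]))
  refine hz1 (FaithfulSMul.eq_of_smul_eq_smul fun a : E => ?_)
  rw [one_smul, ← sub_eq_zero]
  refine hker _ ?_
  rw [map_sub, avg_commute (Commute.refl z), avg_fixed hzp, sub_self]

theorem isCyclic_and_fpf (hp2 : p ≠ 2) :
    IsCyclic P ∧ ∀ g : P, g ≠ 1 → ∀ a : E, g • a = a → a = 0 := by
  have hc : IsCyclic P := by
    by_contra hnc
    have hnt : Nontrivial P := by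
      rcases subsingleton_or_nontrivial P with h | h
      · exact absurd (inferInstance : IsCyclic P) hnc
      · exact h
    have hcop := eq_one_or_coprime hP hq hE hconst hnt
    obtain ⟨z, e, hzc, hz, he, hez, hconj⟩ := exists_central_and_noncentral hp2 hP hnc
    have hzp : z ^ p = 1 := hz ▸ pow_orderOf_eq_one z
    have hze : Commute e z := Subgroup.mem_center_iff.1 hzc e
    have hfix : ∀ {x : E}, z • x = x → x = 0 := fun h => central_fpf hP hq hE hconst hzc hz h
    have hpfix : ∀ {i : ℕ} {x : E}, ¬ p ∣ i → z ^ i • x = x → x = 0 := by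
      intro i x hi hx
      obtain ⟨m, hm⟩ := exists_pow_eq_self_of_coprime (n := i) (x := z)
        (by rw [hz]; exact ((hp.out.coprime_iff_not_dvd).2 hi).symm)
      refine hfix ?_
      rw [← hm]
      exact (pow_mem (show z ^ i ∈ stabilizer P x from hx) m)
    have hcross : ∀ {i j : ℕ} {x : E}, ¬ (i : ZMod p) = j → (e * z ^ i) • x = x →
        avg p (e * z ^ j) x = 0 := by
      intro i j x hij hx
      have hci : Commute (e * z ^ j) (e * z ^ i) :=
        (((Commute.refl e).mul_right (hze.pow_right i)).mul_left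
          (((hze.pow_right j).symm).mul_right (Commute.pow_pow_self z j i)))
      have hyi : (e * z ^ i) • avg p (e * z ^ j) x = avg p (e * z ^ j) x := by
        rw [← avg_commute hci, hx]
      have hyj : (e * z ^ j) • avg p (e * z ^ j) x = avg p (e * z ^ j) x :=
        avg_fixed (by rw [(hze.pow_right j).mul_pow, he, ← pow_mul, mul_comm, pow_mul, hzp, one_pow,
          one_mul]) x
      set y := avg p (e * z ^ j) x with hy
      rw [mul_smul] at hyi hyj
      have hzij : z ^ i • y = z ^ j • y := smul_left_cancel e (hyi.trans hyj.symm)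
      refine hpfix (i := i + (p - 1) * j) (fun hd => hij ?_) ?_
      · have := ((ZMod.natCast_eq_zero_iff _ _).2 hd : ((i + (p - 1) * j : ℕ) : ZMod p) = 0)
        rw [Nat.cast_add, Nat.cast_mul, Nat.cast_sub hp.out.one_lt.le, ZMod.natCast_self] at this
        linear_combination this
      · rw [add_comm, pow_add, mul_smul, hzij, ← mul_smul, ← pow_add,
          show (p - 1) * j + j = p * j by
            rw [← Nat.succ_mul]; congr 1; have := hp.out.pos; omega,
          pow_mul, hzp, one_pow, one_smul]
    -- some element `e * z ^ i` fixes a nonzero vector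
    have hex : ∃ (i : ℕ) (v : E), v ≠ 0 ∧ (e * z ^ i) • v = v := by
      have hne : ∃ v : E, v ≠ 0 := by
        by_contra h
        push Not at h
        obtain ⟨g, hg⟩ := exists_ne (1 : P)
        exact hg (FaithfulSMul.eq_of_smul_eq_smul fun a : E => by rw [h a, smul_zero, smul_zero])
      obtain ⟨v, hv⟩ := hne
      by_contra h
      push Not at h
      refine hv (hcop v ?_)
      have h0 : ∀ i, avg p (e * z ^ i) v = 0 := fun i => by
        by_contra hne
        refine h i _ hne (avg_fixed ?_ v)
        rw [(hze.pow_right i).mul_pow, he, ← pow_mul, mul_comm, pow_mul, hzp, one_pow, one_mul]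
      have hsum : (∑ i ∈ Finset.range p, avg p (e * z ^ i) v) = p • v := by
        simp only [avg_apply]
        rw [Finset.sum_comm, Finset.sum_eq_single_of_mem 0 (Finset.mem_range.2 hp.out.pos)]
        · simp
        · intro k hk hk0
          have hk' : ¬ p ∣ k := fun hd =>
            hk0 (Nat.eq_zero_of_dvd_of_lt hd (Finset.mem_range.1 hk))
          have : ∑ i ∈ Finset.range p, (e * z ^ i) ^ k • v = e ^ k • avg p (z ^ k) v := by
            rw [avg_apply, Finset.smul_sum]
            refine Finset.sum_congr rfl fun i _ => ?_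
            rw [(hze.pow_right i).mul_pow, mul_smul, ← pow_mul, ← pow_mul, mul_comm i k]
          rw [this]
          have hz0 : avg p (z ^ k) v = 0 := hpfix hk'
            (avg_fixed (by rw [← pow_mul, mul_comm, pow_mul, hzp, one_pow]) v)
          rw [hz0, smul_zero]
      rw [← hsum]
      exact Finset.sum_eq_zero fun i _ => h0 i
    obtain ⟨i, v, hv0, hv⟩ := hex
    -- `e * z ^ i` is not central
    have hmove : ∃ g : P, g * (e * z ^ i) * g⁻¹ ≠ e * z ^ i := by
      by_contra h
      push Not at h
      have hcen : e * z ^ i ∈ Subgroup.center P :=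
        Subgroup.mem_center_iff.2 fun g => mul_inv_eq_iff_eq_mul.1 (h g)
      refine hv0 (central_fpf hP hq hE hconst hcen (orderOf_eq_prime ?_ fun h1 => hez ?_) hv)
      · rw [(hze.pow_right i).mul_pow, he, ← pow_mul, mul_comm, pow_mul, hzp, one_pow, one_mul]
      · rw [eq_inv_of_mul_eq_one_left h1]
        exact Subgroup.inv_mem _ (Subgroup.npow_mem_zpowers z i)
    obtain ⟨h, hh⟩ := hmove
    have hconj' : ∀ (g : P) (k : ℕ), ∃ d : ℕ, ∀ l : ℕ,
        g * (e * z ^ l) * g⁻¹ = e * z ^ (d + l) ∧ (k = 0 → g * e * g⁻¹ = e * z ^ d) := by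
      intro g _
      obtain ⟨d, hd⟩ := hconj g
      refine ⟨d, fun l => ⟨?_, fun _ => hd⟩⟩
      have hzl : g * z ^ l * g⁻¹ = z ^ l := by
        rw [Subgroup.mem_center_iff.1 (Subgroup.pow_mem _ hzc l) g, mul_inv_cancel_right]
      calc g * (e * z ^ l) * g⁻¹ = (g * e * g⁻¹) * (g * z ^ l * g⁻¹) := by group
        _ = e * z ^ d * z ^ l := by rw [hd, hzl]
        _ = _ := by rw [mul_assoc, ← pow_add]
    obtain ⟨d, hd⟩ := hconj' h 0
    set j := d + i with hj
    set u := h • v with hu
    have huj : (e * z ^ j) • u = u := by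
      rw [hu, ← (hd i).1, mul_smul, inv_smul_smul, mul_smul, hv]
    have hij : ¬ (i : ZMod p) = j := by
      intro hcast
      apply hh
      rw [(hd i).1, ← hj]
      congr 1
      have := (ZMod.natCast_eq_natCast_iff' i j p).1 hcast
      rw [← pow_mod_orderOf z j, ← pow_mod_orderOf z i, hz, this]
    have hu0 : u ≠ 0 := fun h' => hv0 (smul_left_cancel h (h'.trans (smul_zero h).symm))
    have hpe : ∀ (l : ℕ) (x : E), (e * z ^ l) • x = x → avg p (e * z ^ l) x = p • x :=
      fun l x hx => avg_of_fixed hx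
    have huv : u + v ≠ 0 := fun h' => by
      have := congrArg (avg p (e * z ^ i)) h'
      rw [map_add, map_zero, hcross (Ne.symm hij) huj, zero_add, hpe i v hv] at this
      exact hv0 (hcop v this)
    have hstab : stabilizer P (u + v) ≤ stabilizer P u ⊓ stabilizer P v := by
      intro g hg
      rw [mem_stabilizer_iff, smul_add] at hg
      obtain ⟨c, hc⟩ := hconj' g 0
      have hgv : (e * z ^ (c + i)) • (g • v) = g • v := by
        rw [← (hc i).1, mul_smul, inv_smul_smul, mul_smul, hv]
      have hgu : (e * z ^ (c + j)) • (g • u) = g • u := by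
        rw [← (hc j).1, mul_smul, inv_smul_smul, mul_smul, huj]
      have key : ∀ l : ℕ, avg p (e * z ^ l) (g • u) + avg p (e * z ^ l) (g • v) =
          avg p (e * z ^ l) u + avg p (e * z ^ l) v := fun l => by
        rw [← map_add, ← map_add, hg]
      have hc0 : (c : ZMod p) = 0 := by
        by_contra hc0
        have hi := key i
        rw [hcross (Ne.symm hij) huj, zero_add, hpe i v hv,
          hcross (i := c + i) (j := i) (fun h' => hc0 (by push_cast at h'; linear_combination h')) hgv,
          add_zero] at hi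
        by_cases hcj : ((c + j : ℕ) : ZMod p) = i
        · have hj' := key j
          rw [hpe j u huj, hcross hij hv, add_zero,
            hcross (i := c + j) (j := j) (fun h' => hc0 (by push_cast at h'; linear_combination h')) hgu,
            zero_add, hcross (i := c + i) (j := j) ?_ hgv] at hj'
          · exact hu0 (hcop u hj'.symm)
          · intro h'
            apply hij
            push_cast at h' hcj
            have h2 : ((i : ZMod p) - j) * 2 = 0 := by linear_combination h' - hcj
            have h2' : (2 : ZMod p) ≠ 0 := by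
              intro h2
              have : ((2 : ℕ) : ZMod p) = 0 := by exact_mod_cast h2
              rw [ZMod.natCast_eq_zero_iff _ _, Nat.prime_dvd_prime_iff_eq hp.out Nat.prime_two] at this
              exact hp2 this
            exact sub_eq_zero.1 ((mul_eq_zero.1 h2).resolve_right h2')
        · rw [hcross hcj hgu] at hi
          exact hv0 (hcop v hi.symm)
      have hcz : z ^ c = 1 := by
        rw [← orderOf_dvd_iff_pow_eq_one, hz]
        exact (ZMod.natCast_eq_zero_iff _ _).1 hc0
      rw [pow_add, hcz, one_mul] at hgv hgu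
      have hi := key i
      rw [hcross (Ne.symm hij) huj, hpe i v hv, hcross (Ne.symm hij) hgu, hpe i _ hgv, zero_add,
        zero_add] at hi
      have hgv' : g • v = v := sub_eq_zero.1 (hcop _ (by rw [nsmul_sub, hi, sub_self]))
      rw [hgv'] at hg
      exact Subgroup.mem_inf.2 ⟨add_right_cancel hg, hgv'⟩
    have h1 : stabilizer P (u + v) = stabilizer P u :=
      Subgroup.eq_of_le_of_card_ge (hstab.trans inf_le_left) (hconst u (u + v) hu0 huv).le
    have h2 : stabilizer P (u + v) = stabilizer P v :=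
      Subgroup.eq_of_le_of_card_ge (hstab.trans inf_le_right) (hconst v (u + v) hv0 huv).le
    have huv' : (e * z ^ i) • u = u := by
      have : e * z ^ i ∈ stabilizer P v := hv
      rw [← h2, h1] at this; exact this
    have := hpe i u huv'
    rw [hcross (Ne.symm hij) huj] at this
    exact hu0 (hcop u this.symm)
  refine ⟨hc, fun g hg a ha => ?_⟩
  letI := hc.commGroup
  have hdvd : p ∣ orderOf g := hP.dvd_orderOf hg
  refine central_fpf hP hq hE hconst (z := g ^ (orderOf g / p))
    (Subgroup.mem_center_iff.2 fun h => mul_comm _ _)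
    (orderOf_pow_orderOf_div (orderOf_pos g).ne' hdvd) ?_
  exact pow_mem (show g ∈ stabilizer P a from ha) _

end main

end CfsgLib.RankOne.ConstStab
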