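import Mathlib
import Cfsg.Prelude.Def_LieRecognition

/-! An involution acting on a subgroup of odd order: square roots, inverted elements, factorisation. -/

set_option autoImplicit false

open scoped Pointwise

namespace CfsgLib.RankOne

variable {M : Type*} [Group M]

theorem inv_of_mul_self {t : M} (h2 : t * t = 1) : t⁻¹ = t :=
  inv_eq_of_mul_eq_one_right h2

/-- The square root in a subgroup of odd order. -/
noncomputable def oroot (X : Subgroup M) (x : M) : M := x ^ ((Nat.card X + 1) / 2)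

variable {X : Subgroup M}

theorem oroot_mem {x : M} (hx : x ∈ X) : oroot X x ∈ X := pow_mem hx _

theorem pow_card_of_mem [Finite X] {x : M} (hx : x ∈ X) : x ^ Nat.card X = 1 := by
  have := pow_card_eq_one' (G := X) (x := ⟨x, hx⟩)
  exact congrArg Subtype.val this

theorem oroot_sq [Finite X] (hodd : Odd (Nat.card X)) {x : M} (hx : x ∈ X) :
    oroot X x * oroot X x = x := by
  obtain ⟨k, hk⟩ := hodd
  have hc := pow_card_of_mem hx
  rw [hk] at hc
  rw [oroot, hk, show (2 * k + 1 + 1) / 2 = k + 1 by omega, ← pow_add,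
    show k + 1 + (k + 1) = 2 * k + 1 + 1 by omega, pow_succ, hc, one_mul]

theorem oroot_unique [Finite X] (hodd : Odd (Nat.card X)) {x y : M} (hy : y ∈ X) (h : y * y = x) :
    y = oroot X x := by
  obtain ⟨k, hk⟩ := hodd
  have hc := pow_card_of_mem hy
  rw [hk] at hc
  rw [oroot, hk, ← h, show (2 * k + 1 + 1) / 2 = k + 1 by omega, ← sq, ← pow_mul,
    show 2 * (k + 1) = 2 * k + 1 + 1 by omega, pow_succ, hc, one_mul]

theorem sq_inj [Finite X] (hodd : Odd (Nat.card X)) {x y : M} (hx : x ∈ X) (hy : y ∈ X)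
    (h : x * x = y * y) : x = y :=
  (oroot_unique hodd hx rfl).trans (h ▸ (oroot_unique hodd hy rfl).symm)

theorem eq_one_of_sq [Finite X] (hodd : Odd (Nat.card X)) {x : M} (hx : x ∈ X)
    (h : x * x = 1) : x = 1 :=
  sq_inj hodd hx X.one_mem (by simpa using h)

/-- If the square of an element of an odd subgroup commutes with `d`, so does the element. -/
theorem commute_of_sq_commute [Finite X] (hodd : Odd (Nat.card X)) {x d : M} (hx : x ∈ X)
    (h : Commute (x * x) d) : Commute x d := by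
  have e : x = oroot X (x * x) := oroot_unique hodd hx rfl
  rw [e]; exact h.pow_left _

/-- An element of an odd subgroup that inverts `y` (under conjugation) centralises it, so `y ^ 2 = 1`. -/
theorem sq_eq_one_of_conj_inv [Finite X] (hodd : Odd (Nat.card X)) {x y : M} (hx : x ∈ X)
    (h : x * y * x⁻¹ = y⁻¹) : y * y = 1 := by
  have h' : x * y⁻¹ * x⁻¹ = y := by
    have := congrArg Inv.inv h
    simpa [mul_assoc] using this
  have hc : Commute (x * x) y := by
    have : (x * x) * y * (x * x)⁻¹ = y := by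
      have e : (x * x) * y * (x * x)⁻¹ = x * (x * y * x⁻¹) * x⁻¹ := by group
      rw [e, h, h']
    exact mul_inv_eq_iff_eq_mul.mp this
  have hc' := commute_of_sq_commute hodd hx hc
  rw [hc'.eq, mul_inv_cancel_right] at h
  exact mul_eq_one_iff_eq_inv.mpr h

section invol

variable {t : M}

theorem mem_invertedBy (h2 : t * t = 1) {x : M} :
    x ∈ Cfsg.invertedBy X t ↔ x ∈ X ∧ t * x * t = x⁻¹ := by
  simp [Cfsg.invertedBy, inv_of_mul_self h2]

theorem one_mem_invertedBy : (1 : M) ∈ Cfsg.invertedBy X t := by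
  simp [Cfsg.invertedBy]

theorem invertedBy_inv_mem {x : M} (hx : x ∈ Cfsg.invertedBy X t) :
    x⁻¹ ∈ Cfsg.invertedBy X t := by
  refine ⟨X.inv_mem hx.1, ?_⟩
  rw [← conj_inv, hx.2]

theorem invertedBy_pow_mem {x : M} (hx : x ∈ Cfsg.invertedBy X t) (n : ℕ) :
    x ^ n ∈ Cfsg.invertedBy X t := by
  refine ⟨X.pow_mem hx.1 n, ?_⟩
  rw [← conj_pow, hx.2, inv_pow]

theorem invertedBy_oroot_mem {x : M} (hx : x ∈ Cfsg.invertedBy X t) :
    oroot X x ∈ Cfsg.invertedBy X t := invertedBy_pow_mem hx _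

theorem factor_eq [Finite X] (hodd : Odd (Nat.card X)) (h2 : t * t = 1) {x y z : M}
    (hz : z ∈ Cfsg.invertedBy X t) (hy : Commute y t) (he : x = y * z) :
    z = oroot X (t * x⁻¹ * t * x) := by
  obtain ⟨hzX, hzt⟩ := (mem_invertedBy h2).1 hz
  apply oroot_unique hodd hzX
  have e1 : t * z⁻¹ * t = z := by
    have := congrArg Inv.inv hzt
    simpa [inv_of_mul_self h2, mul_assoc] using this
  have e2 : Commute y⁻¹ t := hy.inv_left
  subst he
  calc z * z = (t * z⁻¹ * t) * z := by rw [e1]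
    _ = t * z⁻¹ * (t * y⁻¹) * (y * z) * 1 := by group
    _ = t * z⁻¹ * (y⁻¹ * t) * (y * z) := by rw [← e2.eq]; group
    _ = t * (y * z)⁻¹ * t * (y * z) := by group

theorem exists_factor [Finite X] (hodd : Odd (Nat.card X)) (h2 : t * t = 1)
    (hnorm : ∀ x ∈ X, t * x * t ∈ X) {x : M} (hx : x ∈ X) :
    ∃ y z, y ∈ X ∧ Commute y t ∧ z ∈ Cfsg.invertedBy X t ∧ x = y * z := by
  have htt : ∀ w : M, t * (t * w) = w := fun w => by rw [← mul_assoc, h2, one_mul]
  have hti := inv_of_mul_self h2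
  set w := t * x⁻¹ * t * x with hw
  have hwX : w ∈ X := X.mul_mem (hnorm _ (X.inv_mem hx)) hx
  have hwI : w ∈ Cfsg.invertedBy X t := by
    rw [mem_invertedBy h2]
    refine ⟨hwX, ?_⟩
    simp only [hw, mul_inv_rev, inv_inv, mul_assoc, hti, htt]
  set z := oroot X w with hz
  have hzI : z ∈ Cfsg.invertedBy X t := invertedBy_oroot_mem hwI
  obtain ⟨hzX, hzt⟩ := (mem_invertedBy h2).1 hzI
  have hzz : z * z = w := oroot_sq hodd hwX
  refine ⟨x * z⁻¹, z, X.mul_mem hx (X.inv_mem hzX), ?_, hzI, by group⟩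
  have e1 : t * z⁻¹ * t = z := by
    have := congrArg Inv.inv hzt
    simpa [hti, mul_assoc] using this
  have : t * (x * z⁻¹) * t = x * z⁻¹ := by
    calc t * (x * z⁻¹) * t = (t * x * t) * (t * z⁻¹ * t) := by simp only [mul_assoc, htt]
      _ = (t * x * t) * z := by rw [e1]
      _ = (t * x * t) * ((z * z) * z⁻¹) := by group
      _ = (t * x * t) * (w * z⁻¹) := by rw [hzz]
      _ = x * z⁻¹ := by simp only [hw, mul_assoc, htt, mul_inv_cancel_left]
  have h' : t * (x * z⁻¹) = (x * z⁻¹) * t := by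
    calc t * (x * z⁻¹) = (t * (x * z⁻¹) * t) * t := by rw [mul_assoc _ t t, h2, mul_one]
      _ = (x * z⁻¹) * t := by rw [this]
  exact h'.symm

theorem factor_unique [Finite X] (hodd : Odd (Nat.card X)) (h2 : t * t = 1) {x y z y' z' : M}
    (hy : Commute y t) (hz : z ∈ Cfsg.invertedBy X t) (he : x = y * z)
    (hy' : Commute y' t) (hz' : z' ∈ Cfsg.invertedBy X t) (he' : x = y' * z') :
    y = y' ∧ z = z' := by
  have : z = z' := (factor_eq hodd h2 hz hy he).trans (factor_eq hodd h2 hz' hy' he').symm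
  refine ⟨?_, this⟩
  rw [this] at he
  exact mul_right_cancel (he.symm.trans he')

theorem conj_mem_invertedBy {y z : M} (hy : Commute y t) (hyX : y ∈ X)
    (hz : z ∈ Cfsg.invertedBy X t) : y * z * y⁻¹ ∈ Cfsg.invertedBy X t := by
  refine ⟨X.mul_mem (X.mul_mem hyX hz.1) (X.inv_mem hyX), ?_⟩
  have e : t * (y * z * y⁻¹) * t⁻¹ = (t * y * t⁻¹) * (t * z * t⁻¹) * (t * y * t⁻¹)⁻¹ := by group
  rw [e, hz.2, hy.symm.eq, mul_inv_cancel_right]
  group

theorem conj_mem_closure_invertedBy [Finite X] (hodd : Odd (Nat.card X)) (h2 : t * t = 1)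
    (hnorm : ∀ x ∈ X, t * x * t ∈ X) {x : M} (hx : x ∈ X) {c : M}
    (hc : c ∈ Subgroup.closure (Cfsg.invertedBy X t)) :
    x * c * x⁻¹ ∈ Subgroup.closure (Cfsg.invertedBy X t) := by
  set C := Subgroup.closure (Cfsg.invertedBy X t) with hC
  obtain ⟨y, z, hyX, hy, hz, rfl⟩ := exists_factor hodd h2 hnorm hx
  have hzC : z ∈ C := Subgroup.subset_closure hz
  have h1 : z * c * z⁻¹ ∈ C := C.mul_mem (C.mul_mem hzC hc) (C.inv_mem hzC)
  have hmap : C ≤ C.comap (MulAut.conj y).toMonoidHom := by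
    rw [hC, Subgroup.closure_le]
    intro w hw
    simp only [Subgroup.coe_comap, Set.mem_preimage, SetLike.mem_coe]
    exact Subgroup.subset_closure (conj_mem_invertedBy hy hyX hw)
  have := hmap h1
  simpa [mul_assoc] using this

theorem card_eq_mul [Finite X] (hodd : Odd (Nat.card X)) (h2 : t * t = 1)
    (hnorm : ∀ x ∈ X, t * x * t ∈ X) :
    Nat.card X = Nat.card ↥(X ⊓ Subgroup.centralizer {t}) * Nat.card (Cfsg.invertedBy X t) := by
  rw [← Nat.card_prod]
  symm
  refine Nat.card_eq_of_bijective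
    (fun p : ↥(X ⊓ Subgroup.centralizer {t}) × ↥(Cfsg.invertedBy X t) =>
      (⟨(p.1 : M) * (p.2 : M), X.mul_mem (Subgroup.mem_inf.1 p.1.2).1 p.2.2.1⟩ : X)) ⟨?_, ?_⟩
  · rintro ⟨⟨y, hy⟩, ⟨z, hz⟩⟩ ⟨⟨y', hy'⟩, ⟨z', hz'⟩⟩ h
    have h' : y * z = y' * z' := congrArg Subtype.val h
    have hyc : Commute y t := Subgroup.mem_centralizer_singleton_iff.1 (Subgroup.mem_inf.1 hy).2
    have hyc' : Commute y' t := Subgroup.mem_centralizer_singleton_iff.1 (Subgroup.mem_inf.1 hy').2
    obtain ⟨e1, e2⟩ := factor_unique hodd h2 hyc hz rfl hyc' hz' h'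
    subst e1 e2; rfl
  · rintro ⟨x, hx⟩
    obtain ⟨y, z, hyX, hy, hz, rfl⟩ := exists_factor hodd h2 hnorm hx
    exact ⟨(⟨y, Subgroup.mem_inf.2 ⟨hyX, Subgroup.mem_centralizer_singleton_iff.2 hy⟩⟩, ⟨z, hz⟩), rfl⟩

end invol

end CfsgLib.RankOne
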