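import Mathlib
import Cfsg.Prelude.Def_LieRecognition
import Cfsg.Agent.Lib.RankOne.OddInvert

/-! The standing rank-one set-up `Cfsg.IsRankOneSetup`: regularity of `Q`, involutions, the set of
inverted elements of the two-point stabiliser, fixed point sets. -/

set_option autoImplicit false

open MulAction

namespace CfsgLib.RankOne

variable {G Ω : Type*} [Group G] [MulAction G Ω] {a : Ω} {t : G} {Q : Subgroup G}

/-- The two-point stabiliser of `a` and `t • a`. -/
abbrev twoPt (G : Type*) {Ω : Type*} [Group G] [MulAction G Ω] (a : Ω) (t : G) : Subgroup G :=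
  stabilizer G a ⊓ stabilizer G (t • a)

theorem conj_smul_fix {g x : G} {c : Ω} : (g⁻¹ * x * g) • c = c ↔ x • (g • c) = g • c := by
  rw [mul_smul, mul_smul, inv_smul_eq_iff]

section basic

variable (hS : Cfsg.IsRankOneSetup G Ω a t Q)

include hS

theorem t_inv : t⁻¹ = t := inv_of_mul_self hS.mul_self

theorem t_smul_t_smul (c : Ω) : t • (t • c) = c := by rw [← mul_smul, hS.mul_self, one_smul]

theorem t_smul_ne : t • a ≠ a := hS.not_mem

theorem exists_move {p q r s : Ω} (h : p ≠ q) (h' : r ≠ s) : ∃ g : G, g • p = r ∧ g • q = s :=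
  is_two_pretransitive_iff.1 hS.two_transitive h h'

theorem Q_fix {x : G} (hx : x ∈ Q) : x • a = a := hS.le hx

theorem mem_twoPt {g : G} : g ∈ twoPt G a t ↔ g • a = a ∧ g • (t • a) = t • a := by
  simp [twoPt, mem_stabilizer_iff]

theorem exists_decomp {g : G} (hg : g • a = a) : ∃ q ∈ Q, ∃ d ∈ twoPt G a t, q * d = g := by
  have hn : twoPt G a t ≤ Subgroup.normalizer (Q : Set G) := by
    intro d hd n
    constructor
    · exact hS.conj_mem d hd.1 n
    · intro h
      have := hS.conj_mem d⁻¹ ((stabilizer G a).inv_mem hd.1) _ h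
      simpa [mul_assoc] using this
  have hmem : g ∈ Q ⊔ twoPt G a t := by rw [hS.sup_eq]; exact hg
  rw [← SetLike.mem_coe, Subgroup.coe_mul_of_right_le_normalizer_left Q _ hn] at hmem
  exact Set.mem_mul.1 hmem

theorem Q_exists {b c : Ω} (hb : b ≠ a) (hc : c ≠ a) : ∃ q ∈ Q, q • b = c := by
  have key : ∀ {e : Ω}, e ≠ a → ∃ q ∈ Q, q • (t • a) = e := by
    intro e he
    obtain ⟨g, hga, hge⟩ := exists_move hS (t_smul_ne hS).symm he.symm
    obtain ⟨q, hq, d, hd, rfl⟩ := exists_decomp hS hga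
    refine ⟨q, hq, ?_⟩
    rwa [mul_smul, ((mem_twoPt hS).1 hd).2] at hge
  obtain ⟨q, hq, rfl⟩ := key hb
  obtain ⟨r, hr, rfl⟩ := key hc
  exact ⟨r * q⁻¹, Q.mul_mem hr (Q.inv_mem hq), by rw [mul_smul, inv_smul_smul]⟩

theorem Q_eq_one {q : G} (hq : q ∈ Q) {b : Ω} (hb : b ≠ a) (h : q • b = b) : q = 1 := by
  obtain ⟨r, hr, rfl⟩ := Q_exists hS (t_smul_ne hS) hb
  have h1 : r⁻¹ * q * r ∈ Q ⊓ stabilizer G (t • a) :=
    Subgroup.mem_inf.2 ⟨Q.mul_mem (Q.mul_mem (Q.inv_mem hr) hq) hr, conj_smul_fix.2 h⟩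
  rw [hS.inf_eq_bot, Subgroup.mem_bot] at h1
  simpa [mul_assoc] using congrArg (fun z => r * z * r⁻¹) h1

theorem Q_unique {q r : G} (hq : q ∈ Q) (hr : r ∈ Q) {b : Ω} (hb : b ≠ a) (h : q • b = r • b) :
    q = r := by
  have := Q_eq_one hS (Q.mul_mem (Q.inv_mem hr) hq) hb (by rw [mul_smul, h, inv_smul_smul])
  exact (inv_mul_eq_one.1 this).symm

theorem fix_eq {q : G} (hq : q ∈ Q) (hq1 : q ≠ 1) {c : Ω} (h : q • c = c) : c = a :=
  Classical.byContradiction fun hc => hq1 (Q_eq_one hS hq hc h)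

theorem mem_stab_of_conj {g x : G} (hx : x ∈ Q) (hx1 : x ≠ 1)
    (h : g⁻¹ * x * g ∈ stabilizer G a) : g ∈ stabilizer G a :=
  fix_eq hS hx hx1 (conj_smul_fix.1 h)

theorem mem_stab_of_commute {g x : G} (hx : x ∈ Q) (hx1 : x ≠ 1) (h : Commute g x) :
    g ∈ stabilizer G a := by
  refine mem_stab_of_conj hS hx hx1 ?_
  rw [mul_assoc, ← h.eq, inv_mul_cancel_left]
  exact hS.le hx

theorem mul_left_cancel_decomp {q q' d d' : G} (hq : q ∈ Q) (hq' : q' ∈ Q)
    (hd : d ∈ twoPt G a t) (hd' : d' ∈ twoPt G a t) (h : q * d = q' * d') : q = q' ∧ d = d' := by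
  have h1 : q • (t • a) = q' • (t • a) := by
    have := congrArg (fun g : G => g • (t • a)) h
    simpa only [mul_smul, ((mem_twoPt hS).1 hd).2, ((mem_twoPt hS).1 hd').2] using this
  have := Q_unique hS hq hq' (t_smul_ne hS) h1
  subst this
  exact ⟨rfl, mul_left_cancel h⟩

theorem involution_mem_Q [Finite G] {s : G} (hs : s ∈ stabilizer G a) (hs2 : s * s = 1) :
    s ∈ Q := by
  obtain ⟨q, hq, d, hd, rfl⟩ := exists_decomp hS (g := s) hs
  have e : (q * (d * q * d⁻¹)) * (d * d) = 1 := by rw [← hs2]; group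
  have hmem : q * (d * q * d⁻¹) ∈ Q := Q.mul_mem hq (hS.conj_mem d hd.1 q hq)
  obtain ⟨-, h⟩ := mul_left_cancel_decomp hS hmem Q.one_mem ((twoPt G a t).mul_mem hd hd)
    (twoPt G a t).one_mem (by rw [e, one_mul])
  rw [eq_one_of_sq hS.odd_card hd h, mul_one]
  exact hq

theorem exists_involution [Finite G] : ∃ s ∈ Q, s ≠ 1 ∧ s * s = 1 := by
  obtain ⟨⟨s, hs⟩, h⟩ := exists_prime_orderOf_dvd_card' (G := Q) 2 hS.even_card.two_dvd
  rw [Subgroup.orderOf_mk] at h
  refine ⟨s, hs, fun e => ?_, ?_⟩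
  · rw [e, orderOf_one] at h; omega
  · rw [← sq, ← h]; exact pow_orderOf_eq_one s

/-- `Q` is in bijection with the points other than `a`. -/
noncomputable def qEquiv : Q ≃ {c : Ω // c ≠ a} :=
  Equiv.ofBijective
    (fun q => ⟨(q : G) • (t • a), fun h => t_smul_ne hS (by
      have := congrArg (fun c => (q : G)⁻¹ • c) h
      rw [inv_smul_smul, Q_fix hS (Q.inv_mem q.2)] at this
      exact this)⟩)
    ⟨fun q r h => Subtype.ext (Q_unique hS q.2 r.2 (t_smul_ne hS) (congrArg Subtype.val h)),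
      fun c => by
        obtain ⟨q, hq, h⟩ := Q_exists hS (t_smul_ne hS) c.2
        exact ⟨⟨q, hq⟩, Subtype.ext h⟩⟩

theorem pretransitive : IsPretransitive G Ω := by
  refine ⟨fun x y => ?_⟩
  by_cases h : x = y
  · exact ⟨1, by rw [one_smul, h]⟩
  · obtain ⟨g, hg, -⟩ := exists_move hS h (Ne.symm h)
    exact ⟨g, hg⟩

theorem finite_omega [Finite G] : Finite Ω := by
  have := pretransitive hS
  exact Finite.of_surjective (fun g : G => g • a) (fun c => exists_smul_eq G a c)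

theorem card_omega [Finite G] : Nat.card Ω = Nat.card Q + 1 := by
  have := finite_omega hS
  classical
  have := Fintype.ofFinite Ω
  rw [Nat.card_congr (qEquiv hS), Nat.card_eq_fintype_card, Nat.card_eq_fintype_card,
    Fintype.card_subtype_compl, Fintype.card_subtype_eq]
  have := Fintype.card_pos_iff.2 ⟨a⟩
  omega

theorem card_stab [Finite G] :
    Nat.card (stabilizer G a) = Nat.card Q * Nat.card (twoPt G a t) := by
  rw [← Nat.card_prod]
  refine (Nat.card_eq_of_bijective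
    (fun p : Q × twoPt G a t =>
      (⟨(p.1 : G) * (p.2 : G), (stabilizer G a).mul_mem (hS.le p.1.2) (Subgroup.mem_inf.1 p.2.2).1⟩ :
        stabilizer G a)) ⟨?_, ?_⟩).symm
  · rintro ⟨⟨q, hq⟩, ⟨d, hd⟩⟩ ⟨⟨q', hq'⟩, ⟨d', hd'⟩⟩ h
    obtain ⟨rfl, rfl⟩ := mul_left_cancel_decomp hS hq hq' hd hd' (congrArg Subtype.val h)
    rfl
  · rintro ⟨g, hg⟩
    obtain ⟨q, hq, d, hd, rfl⟩ := exists_decomp hS (g := g) hg
    exact ⟨(⟨q, hq⟩, ⟨d, hd⟩), rfl⟩

theorem card_G [Finite G] :
    Nat.card G = Nat.card Q * Nat.card (twoPt G a t) * (Nat.card Q + 1) := by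
  have := pretransitive hS
  rw [← Subgroup.card_mul_index (stabilizer G a), card_stab hS,
    index_stabilizer_of_transitive, card_omega hS]

theorem involution_fixed_point [Finite G] {u : G} (hu : u * u = 1) : ∃ c : Ω, u • c = c := by
  have := finite_omega hS
  classical
  have := Fintype.ofFinite Ω
  refine Equiv.Perm.exists_fixed_point_of_prime (p := 2) (n := 1) ?_ (σ := toPerm u) ?_
  · rw [← Nat.card_eq_fintype_card, card_omega hS]
    obtain ⟨k, hk⟩ := hS.even_card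
    omega
  · ext c
    simp [sq, ← mul_smul, hu]

theorem involution_fix_unique [Finite G] {u : G} (hu1 : u ≠ 1) (hu : u * u = 1) {c e : Ω}
    (hc : u • c = c) (he : u • e = e) : c = e := by
  have := pretransitive hS
  obtain ⟨g, rfl⟩ := exists_smul_eq G a c
  have hv : g⁻¹ * u * g ∈ stabilizer G a := conj_smul_fix.2 hc
  have hv2 : g⁻¹ * u * g * (g⁻¹ * u * g) = 1 := by
    have : g⁻¹ * u * g * (g⁻¹ * u * g) = g⁻¹ * (u * u) * g := by group
    rw [this, hu]; group
  have hv1 : g⁻¹ * u * g ≠ 1 := fun h => hu1 (by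
    simpa [mul_assoc] using congrArg (fun z => g * z * g⁻¹) h)
  have := fix_eq hS (involution_mem_Q hS hv hv2) hv1 (c := g⁻¹ • e)
    (by rw [conj_smul_fix, smul_inv_smul]; exact he)
  rw [← this, smul_inv_smul]

theorem odd_orderOf_mul [Finite G] {s u : G} (hs : s ∈ stabilizer G a) (hs1 : s ≠ 1)
    (hs2 : s * s = 1) (hu : u ∉ stabilizer G a) (hu2 : u * u = 1) : Odd (orderOf (s * u)) := by
  by_contra hne
  obtain ⟨k, hk⟩ := Nat.not_odd_iff_even.1 hne
  have hpos := orderOf_pos (s * u)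
  set j := (s * u) ^ k with hj
  have hj2 : j * j = 1 := by rw [hj, ← pow_add, ← hk]; exact pow_orderOf_eq_one _
  have hj1 : j ≠ 1 := fun h => by
    have := Nat.le_of_dvd (by omega) (orderOf_dvd_of_pow_eq_one h)
    omega
  have hsj : Commute j s := by
    have e : s * (s * u) * s⁻¹ = (s * u)⁻¹ := by
      rw [mul_inv_rev, inv_of_mul_self hu2, ← mul_assoc, hs2, one_mul]
    have e2 : s * j * s⁻¹ = j := by
      rw [hj, ← conj_pow, e, inv_pow, ← hj]; exact inv_of_mul_self hj2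
    exact (mul_inv_eq_iff_eq_mul.1 e2).symm
  have hju : Commute j u := by
    have hjsu : Commute j (s * u) := Commute.pow_self _ _
    have hsu : s * (s * u) = u := by rw [← mul_assoc, hs2, one_mul]
    rw [← hsu]; exact hsj.mul_right hjsu
  have hjQ : j ∈ Q := involution_mem_Q hS
    (mem_stab_of_commute hS (involution_mem_Q hS hs hs2) hs1 hsj) hj2
  exact hu (mem_stab_of_commute hS hjQ hj1 hju.symm)

theorem exists_conj_involution [Finite G] {s u : G} (hs : s ∈ stabilizer G a) (hs1 : s ≠ 1)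
    (hs2 : s * s = 1) (hu : u ∉ stabilizer G a) (hu2 : u * u = 1) :
    ∃ w : G, w ∉ stabilizer G a ∧ w * w = 1 ∧ w * s * w = u := by
  obtain ⟨k, hk⟩ := odd_orderOf_mul hS hs hs1 hs2 hu hu2
  set x := s * u with hx
  set z := x ^ (k + 1) with hz
  have hzz : z * z = x := by
    rw [hz, ← pow_add, show k + 1 + (k + 1) = orderOf x + 1 by omega, pow_succ,
      pow_orderOf_eq_one, one_mul]
  have e : s * x * s⁻¹ = x⁻¹ := by
    rw [hx, mul_inv_rev, inv_of_mul_self hu2, ← mul_assoc, hs2, one_mul, inv_of_mul_self hs2]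
  have ez : s * z * s = z⁻¹ := by
    rw [hz, show (s * x ^ (k + 1) * s) = s * x ^ (k + 1) * s⁻¹ by rw [inv_of_mul_self hs2],
      ← conj_pow, e, inv_pow]
  have hw2 : s * z * (s * z) = 1 := by rw [← mul_assoc, ez, inv_mul_cancel]
  have hws : s * z * s * (s * z) = u := by
    calc s * z * s * (s * z) = s * z * (s * s) * z := by group
      _ = s * (z * z) := by rw [hs2]; group
      _ = u := by rw [hzz, hx, ← mul_assoc, hs2, one_mul]
  refine ⟨s * z, fun h => hu ?_, hw2, hws⟩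
  rw [← hws]
  exact (stabilizer G a).mul_mem ((stabilizer G a).mul_mem h hs) h

theorem exists_conj_of_involutions [Finite G] {u v : G} (hu1 : u ≠ 1) (hu2 : u * u = 1)
    (hv1 : v ≠ 1) (hv2 : v * v = 1) : ∃ g : G, g * u * g⁻¹ = v := by
  obtain ⟨s, hs, hs1, hs2⟩ := exists_involution hS
  have key : ∀ w : G, w ≠ 1 → w * w = 1 → IsConj t w := by
    intro w hw1 hw2
    have h1 : ∀ r : G, r ∈ stabilizer G a → r ≠ 1 → r * r = 1 → IsConj t r := by
      intro r hr hr1 hr2
      obtain ⟨g, -, hg2, hg⟩ := exists_conj_involution hS hr hr1 hr2 hS.not_mem hS.mul_self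
      exact (isConj_iff.2 ⟨g, by rw [inv_of_mul_self hg2]; exact hg⟩).symm
    by_cases hw : w ∈ stabilizer G a
    · exact h1 w hw hw1 hw2
    · obtain ⟨g, -, hg2, hg⟩ := exists_conj_involution hS (hS.le hs) hs1 hs2 hw hw2
      exact (h1 s (hS.le hs) hs1 hs2).trans (isConj_iff.2 ⟨g, by rw [inv_of_mul_self hg2]; exact hg⟩)
  exact isConj_iff.1 ((key u hu1 hu2).symm.trans (key v hv1 hv2))

theorem conj_involution_injective [Finite G] {s w w' : G} (hs : s ∈ stabilizer G a) (hs1 : s ≠ 1)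
    (hs2 : s * s = 1) (hw : w ∉ stabilizer G a) (hw2 : w * w = 1) (hw' : w' ∉ stabilizer G a)
    (hw2' : w' * w' = 1) (h : w * s * w = w' * s * w') : w = w' := by
  let O := {v : G // v ∉ stabilizer G a ∧ v * v = 1}
  let f : O → O := fun v => ⟨v.1 * s * v.1, fun hmem => v.2.1 (by
      have h1 : v.1⁻¹ * s * v.1 ∈ stabilizer G a := by rwa [inv_of_mul_self v.2.2]
      exact mem_stab_of_conj hS (involution_mem_Q hS hs hs2) hs1 h1), by
    calc v.1 * s * v.1 * (v.1 * s * v.1) = v.1 * s * (v.1 * v.1) * s * v.1 := by group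
      _ = v.1 * (s * s) * v.1 := by rw [v.2.2]; group
      _ = 1 := by rw [hs2, mul_one, v.2.2]⟩
  have hsurj : Function.Surjective f := by
    intro u
    obtain ⟨v, hv, hv2, hvu⟩ := exists_conj_involution hS hs hs1 hs2 u.2.1 u.2.2
    exact ⟨⟨v, hv, hv2⟩, Subtype.ext hvu⟩
  have := (Finite.injective_iff_surjective.2 hsurj) (a₁ := ⟨w, hw, hw2⟩) (a₂ := ⟨w', hw', hw2'⟩)
    (Subtype.ext h)
  exact congrArg Subtype.val this

theorem t_conj_mem {x : G} (hx : x ∈ twoPt G a t) : t * x * t ∈ twoPt G a t := by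
  obtain ⟨h1, h2⟩ := (mem_twoPt hS).1 hx
  rw [mem_twoPt hS]
  simp only [mul_smul, h1, h2, t_smul_t_smul hS]
  exact ⟨trivial, trivial⟩

theorem mem_K {k : G} :
    k ∈ Cfsg.invertedBy (twoPt G a t) t ↔ k ∈ twoPt G a t ∧ t * k * t = k⁻¹ :=
  mem_invertedBy hS.mul_self

theorem K_mul_t {k : G} (hk : k ∈ Cfsg.invertedBy (twoPt G a t) t) :
    (k * t) * (k * t) = 1 ∧ (k * t) • a = t • a ∧ (k * t) • (t • a) = a := by
  obtain ⟨hkD, hkt⟩ := (mem_K hS).1 hk
  obtain ⟨h1, h2⟩ := (mem_twoPt hS).1 hkD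
  refine ⟨?_, ?_, ?_⟩
  · calc k * t * (k * t) = k * (t * k * t) := by group
      _ = 1 := by rw [hkt, mul_inv_cancel]
  · rw [mul_smul, h2]
  · rw [mul_smul, t_smul_t_smul hS, h1]

theorem K_conj {k : G} (hk : k ∈ Cfsg.invertedBy (twoPt G a t) t) :
    k * t = t * k⁻¹ := by
  obtain ⟨-, hkt⟩ := (mem_K hS).1 hk
  rw [← hkt, ← mul_assoc, ← mul_assoc, hS.mul_self, one_mul]

theorem mem_K_of_swap {w : G} (hw2 : w * w = 1) (hw : w • a = t • a) :
    w * t ∈ Cfsg.invertedBy (twoPt G a t) t := by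
  have hw' : w • (t • a) = a := by rw [← hw, ← mul_smul, hw2, one_smul]
  rw [mem_K hS, mem_twoPt hS]
  refine ⟨⟨by rw [mul_smul, hw'], by rw [mul_smul, t_smul_t_smul hS, hw]⟩, ?_⟩
  rw [mul_inv_rev, t_inv hS, inv_of_mul_self hw2, mul_assoc t (w * t), mul_assoc w t t,
    hS.mul_self, mul_one]

theorem K_swap_eq_conj [Finite G] {k : G} (hk : k ∈ Cfsg.invertedBy (twoPt G a t) t) :
    k * t = oroot (twoPt G a t) k * t * (oroot (twoPt G a t) k)⁻¹ := by
  set j := oroot (twoPt G a t) k with hj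
  have hjK : j ∈ Cfsg.invertedBy (twoPt G a t) t := invertedBy_oroot_mem hk
  have hjj : j * j = k := oroot_sq hS.odd_card hk.1
  calc k * t = j * (j * t) := by rw [← hjj, mul_assoc]
    _ = j * (t * j⁻¹) := by rw [K_conj hS hjK]
    _ = _ := by rw [mul_assoc]

theorem exists_K_conj [Finite G] {s s' : G} (hs : s ∈ Cfsg.involutionsIn (stabilizer G a : Set G))
    (hs' : s' ∈ Cfsg.involutionsIn (stabilizer G a : Set G)) :
    ∃! k, k ∈ Cfsg.invertedBy (twoPt G a t) t ∧ k⁻¹ * s * k = s' := by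
  obtain ⟨hsa, hs1, hs2⟩ := hs
  obtain ⟨hsa', hs1', hs2'⟩ := hs'
  have htt : ∀ x : G, t * (t * x) = x := fun x => by rw [← mul_assoc, hS.mul_self, one_mul]
  set u := t * s' * t with hu
  have hu2 : u * u = 1 := by
    simp only [hu, mul_assoc, htt]
    rw [← mul_assoc s' s', hs2', one_mul, hS.mul_self]
  have hu1 : u ≠ 1 := fun h => hs1' (by
    simpa [hu, mul_assoc, htt, hS.mul_self] using congrArg (fun z => t * z * t) h)
  have huta : u • (t • a) = t • a := by
    have h : s' • a = a := hsa'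
    simp only [hu, mul_smul, t_smul_t_smul hS, h]
  have huna : u ∉ stabilizer G a := fun h =>
    t_smul_ne hS (involution_fix_unique hS hu1 hu2 huta h)
  obtain ⟨w, hw, hw2, hwu⟩ := exists_conj_involution hS hsa hs1 hs2 huna hu2
  have hwa : w • a = t • a := by
    refine involution_fix_unique hS hu1 hu2 ?_ huta
    have h : s • a = a := hsa
    rw [← hwu, mul_smul, mul_smul, ← mul_smul w w, hw2, one_smul, h]
  have hk := mem_K_of_swap hS hw2 hwa
  refine ⟨w * t, ⟨hk, ?_⟩, ?_⟩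
  · calc (w * t)⁻¹ * s * (w * t) = t * (w * s * w) * t := by
          rw [mul_inv_rev, t_inv hS, inv_of_mul_self hw2]; group
      _ = s' := by rw [hwu, hu]; simp only [mul_assoc, htt, hS.mul_self, mul_one]
  · rintro k ⟨hkK, hks⟩
    obtain ⟨hk2, hka, -⟩ := K_mul_t hS hkK
    have e : k * t * s * (k * t) = w * s * w := by
      calc k * t * s * (k * t) = t * k⁻¹ * s * (k * t) := by rw [K_conj hS hkK]
        _ = t * (k⁻¹ * s * k) * t := by group
        _ = w * s * w := by rw [hks, hwu, hu]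
    have := conj_involution_injective hS hsa hs1 hs2
      (w := k * t) (fun h => t_smul_ne hS (hka.symm.trans h)) hk2 hw hw2 e
    rw [← this, mul_assoc, hS.mul_self, mul_one]

theorem conj_mem_involutionsIn {g s : G} (hg : g ∈ stabilizer G a)
    (hs : s ∈ Cfsg.involutionsIn (stabilizer G a : Set G)) :
    g⁻¹ * s * g ∈ Cfsg.involutionsIn (stabilizer G a : Set G) := by
  obtain ⟨hsa, hs1, hs2⟩ := hs
  refine ⟨(stabilizer G a).mul_mem ((stabilizer G a).mul_mem ((stabilizer G a).inv_mem hg) hsa) hg,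
    fun h => hs1 (by simpa [mul_assoc] using congrArg (fun z => g * z * g⁻¹) h), ?_⟩
  calc g⁻¹ * s * g * (g⁻¹ * s * g) = g⁻¹ * (s * s) * g := by group
    _ = 1 := by rw [hs2]; group

theorem card_K [Finite G] :
    Nat.card (Cfsg.invertedBy (twoPt G a t) t) =
      Nat.card (Cfsg.involutionsIn (stabilizer G a : Set G)) := by
  obtain ⟨s, hs, hs1, hs2⟩ := exists_involution hS
  have hsI : s ∈ Cfsg.involutionsIn (stabilizer G a : Set G) := ⟨hS.le hs, hs1, hs2⟩
  refine Nat.card_eq_of_bijective (fun k : Cfsg.invertedBy (twoPt G a t) t =>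
    (⟨k.1⁻¹ * s * k.1, conj_mem_involutionsIn hS (Subgroup.mem_inf.1 k.2.1).1 hsI⟩ :
      Cfsg.involutionsIn (stabilizer G a : Set G))) ⟨?_, ?_⟩
  · intro k k' h
    have h' : k.1⁻¹ * s * k.1 = k'.1⁻¹ * s * k'.1 := congrArg Subtype.val h
    exact Subtype.ext ((exists_K_conj hS hsI (conj_mem_involutionsIn hS (Subgroup.mem_inf.1 k.2.1).1 hsI)).unique
      ⟨k.2, rfl⟩ ⟨k'.2, h'.symm⟩)
  · intro s'
    obtain ⟨k, ⟨hk, hks⟩, -⟩ := exists_K_conj hS hsI s'.2
    exact ⟨⟨k, hk⟩, Subtype.ext hks⟩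

theorem exists_structure_eq [Finite G] :
    ∃! p : G × G, p.1 ∈ Cfsg.involutionsIn (stabilizer G a : Set G) ∧ p.2 ∈ Q ∧
      t * p.1 * t = p.2⁻¹ * t * p.2 := by
  have htt : ∀ x : G, t * (t * x) = x := fun x => by rw [← mul_assoc, hS.mul_self, one_mul]
  obtain ⟨s, hs, hs1, hs2⟩ := exists_involution hS
  have hsI : s ∈ Cfsg.involutionsIn (stabilizer G a : Set G) := ⟨hS.le hs, hs1, hs2⟩
  set u := t * s * t with hu
  have hu2 : u * u = 1 := by
    simp only [hu, mul_assoc, htt]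
    rw [← mul_assoc s s, hs2, one_mul, hS.mul_self]
  have hu1 : u ≠ 1 := fun h => hs1 (by
    simpa [hu, mul_assoc, htt, hS.mul_self] using congrArg (fun z => t * z * t) h)
  have huta : u • (t • a) = t • a := by
    have h : s • a = a := hS.le hs
    simp only [hu, mul_smul, t_smul_t_smul hS, h]
  have hua : u • a ≠ a := fun h => t_smul_ne hS (involution_fix_unique hS hu1 hu2 huta h)
  obtain ⟨r, hr, hrb⟩ := Q_exists hS hua (t_smul_ne hS)
  have hw2 : r * u * r⁻¹ * (r * u * r⁻¹) = 1 := by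
    calc r * u * r⁻¹ * (r * u * r⁻¹) = r * (u * u) * r⁻¹ := by group
      _ = 1 := by rw [hu2]; group
  have hwa : (r * u * r⁻¹) • a = t • a := by
    rw [mul_smul, mul_smul, show r⁻¹ • a = a from Q_fix hS (Q.inv_mem hr), hrb]
  set k₀ := r * u * r⁻¹ * t with hk₀def
  have hk₀ : k₀ ∈ Cfsg.invertedBy (twoPt G a t) t := mem_K_of_swap hS hw2 hwa
  have hur : u = r⁻¹ * (k₀ * t) * r := by
    rw [hk₀def, mul_assoc (r * u * r⁻¹), hS.mul_self]; group
  -- transport of the equation under `K`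
  have move : ∀ k ∈ Cfsg.invertedBy (twoPt G a t) t,
      t * (k⁻¹ * s * k) * t = (k * r * k⁻¹)⁻¹ * (k * k₀ * k * t) * (k * r * k⁻¹) := by
    intro k hk
    have e1 : t * k⁻¹ = k * t := (K_conj hS hk).symm
    have e2 : k * t = t * k⁻¹ := K_conj hS hk
    calc t * (k⁻¹ * s * k) * t = (t * k⁻¹) * s * (k * t) := by group
      _ = (k * t) * s * (t * k⁻¹) := by rw [e1]
      _ = k * u * k⁻¹ := by rw [hu]; group
      _ = (k * r * k⁻¹)⁻¹ * (k * k₀ * (t * k⁻¹)) * (k * r * k⁻¹) := by rw [hur]; group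
      _ = _ := by rw [e1]; group
  set j := oroot (twoPt G a t) k₀ with hj
  have hjK : j ∈ Cfsg.invertedBy (twoPt G a t) t := invertedBy_oroot_mem hk₀
  have hjj : j * j = k₀ := oroot_sq hS.odd_card hk₀.1
  have hkQ : ∀ k ∈ Cfsg.invertedBy (twoPt G a t) t, k * r * k⁻¹ ∈ Q := fun k hk =>
    hS.conj_mem k (Subgroup.mem_inf.1 hk.1).1 r hr
  refine ⟨(j⁻¹⁻¹ * s * j⁻¹, j⁻¹ * r * j⁻¹⁻¹), ⟨conj_mem_involutionsIn hS ?_ hsI,
    hkQ _ (invertedBy_inv_mem hjK), ?_⟩, ?_⟩
  · exact (stabilizer G a).inv_mem (Subgroup.mem_inf.1 hjK.1).1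
  · rw [move _ (invertedBy_inv_mem hjK), ← hjj]; group
  rintro ⟨s', r'⟩ ⟨hs', hr' : r' ∈ Q, heq : t * s' * t = r'⁻¹ * t * r'⟩
  obtain ⟨k, ⟨hk, hks⟩, -⟩ := exists_K_conj hS hsI (s' := s') hs'
  subst hks
  rw [move k hk] at heq
  have hkk := hkQ k hk
  obtain ⟨-, h1, -⟩ := K_mul_t hS hk
  have hmid : (k * k₀ * k * t) • a = t • a := by
    have hd : k * k₀ * k ∈ twoPt G a t :=
      (twoPt G a t).mul_mem ((twoPt G a t).mul_mem hk.1 hk₀.1) hk.1
    rw [mul_smul, ((mem_twoPt hS).1 hd).2]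
  have h2 := congrArg (fun g : G => g • a) heq
  rw [mul_smul, mul_smul, Q_fix hS hkk, hmid, mul_smul, mul_smul, Q_fix hS hr'] at h2
  have hrr : r' = k * r * k⁻¹ :=
    inv_injective (Q_unique hS (Q.inv_mem hr') (Q.inv_mem hkk) (t_smul_ne hS) h2.symm)
  subst hrr
  have h3 : k * k₀ * k = 1 := by simpa using mul_left_cancel (mul_right_cancel heq)
  have hkj : k = j⁻¹ := by
    have h4 : k⁻¹ * k⁻¹ = k₀ := by
      calc k⁻¹ * k⁻¹ = k⁻¹ * (k * k₀ * k) * k⁻¹ := by rw [h3]; group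
        _ = k₀ := by group
    rw [hj, ← oroot_unique hS.odd_card ((twoPt G a t).inv_mem hk.1) h4, inv_inv]
  subst hkj
  rfl

theorem centralizer_distinguished [Finite G] {s r : G}
    (hs : s ∈ Cfsg.involutionsIn (stabilizer G a : Set G)) (hr : r ∈ Q)
    (heq : t * s * t = r⁻¹ * t * r) :
    twoPt G a t ⊓ Subgroup.centralizer {t} = twoPt G a t ⊓ Subgroup.centralizer {s} := by
  ext d
  simp only [Subgroup.mem_inf, Subgroup.mem_centralizer_singleton_iff]
  refine and_congr_right fun hd => ⟨fun h => ?_, fun h => ?_⟩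
  · have hsd : d⁻¹ * s * d ∈ Cfsg.involutionsIn (stabilizer G a : Set G) :=
      conj_mem_involutionsIn hS hd.1 hs
    have hrd : d⁻¹ * r * d ∈ Q := by
      simpa using hS.conj_mem d⁻¹ ((stabilizer G a).inv_mem hd.1) r hr
    have hc : Commute d t := h
    have e : t * (d⁻¹ * s * d) * t = (d⁻¹ * r * d)⁻¹ * t * (d⁻¹ * r * d) := by
      calc t * (d⁻¹ * s * d) * t = (t * d⁻¹) * s * (d * t) := by group
        _ = d⁻¹ * (t * s * t) * d := by rw [← hc.inv_left.eq, hc.eq]; group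
        _ = d⁻¹ * r⁻¹ * (t * d) * (d⁻¹ * r * d) := by rw [heq]; group
        _ = _ := by rw [← hc.eq]; group
    have := (exists_structure_eq hS).unique (y₁ := (d⁻¹ * s * d, d⁻¹ * r * d)) (y₂ := (s, r))
      ⟨hsd, hrd, e⟩ ⟨hs, hr, heq⟩
    have h1 : d⁻¹ * s * d = s := congrArg Prod.fst this
    calc d * s = d * (d⁻¹ * s * d) := by rw [h1]
      _ = s * d := by group
  · have hc : Commute d s := h
    set d' := t * d * t with hd'
    have hd'D : d' ∈ twoPt G a t := t_conj_mem hS hd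
    set r' := d' * r * d'⁻¹ with hr'
    have hr'Q : r' ∈ Q := hS.conj_mem d' (Subgroup.mem_inf.1 hd'D).1 r hr
    have htt : ∀ x : G, t * (t * x) = x := fun x => by rw [← mul_assoc, hS.mul_self, one_mul]
    have e : r'⁻¹ * (d' * t * d'⁻¹) * r' = r⁻¹ * t * r := by
      rw [← heq]
      calc r'⁻¹ * (d' * t * d'⁻¹) * r' = d' * (r⁻¹ * t * r) * d'⁻¹ := by rw [hr']; group
        _ = t * (d * s * d⁻¹) * t := by
            rw [← heq, hd']; simp only [mul_inv_rev, t_inv hS, mul_assoc, htt]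
        _ = t * s * t := by rw [hc.eq, mul_inv_cancel_right]
    have hmid : (d' * t * d'⁻¹) • a = t • a := by
      rw [mul_smul, mul_smul, show d'⁻¹ • a = a from (stabilizer G a).inv_mem hd'D.1,
        ((mem_twoPt hS).1 hd'D).2]
    have h2 := congrArg (fun g : G => g • a) e
    rw [mul_smul, mul_smul, Q_fix hS hr'Q, hmid, mul_smul, mul_smul, Q_fix hS hr] at h2
    have hrr : r' = r := inv_injective (Q_unique hS (Q.inv_mem hr'Q) (Q.inv_mem hr) (t_smul_ne hS) h2)
    rw [hrr] at e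
    have h3 : d' * t * d'⁻¹ = t := mul_left_cancel (mul_right_cancel e)
    have hc' : Commute d' t := mul_inv_eq_iff_eq_mul.1 h3
    have hdd : d' = d := by
      have e2 : t * d' * t = d := by simp only [hd', mul_assoc, htt, hS.mul_self, mul_one]
      calc d' = d' * t * t := by rw [mul_assoc, hS.mul_self, mul_one]
        _ = t * d' * t := by rw [hc'.eq]
        _ = d := e2
    rw [hdd] at hc'
    exact hc'

end basic

end CfsgLib.RankOne
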