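import Mathlib
import Cfsg.Prelude.Def_LieRecognition
import Cfsg.Agent.Lib.RankOne.Setup

/-! Rank-one set-up: uniqueness of the canonical form `g h t f`. -/

set_option autoImplicit false

open MulAction

namespace CfsgLib.RankOne

variable {G Ω : Type*} [Group G] [MulAction G Ω] {a : Ω} {t : G} {Q : Subgroup G}

theorem canonical_unique (hS : Cfsg.IsRankOneSetup G Ω a t Q) {g g' h h' f f' : G}
    (hg : g ∈ Q) (hg' : g' ∈ Q) (hh : h ∈ twoPt G a t) (hh' : h' ∈ twoPt G a t) (hf : f ∈ Q)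
    (hf' : f' ∈ Q) (e : g * h * t * f = g' * h' * t * f') : g = g' ∧ h = h' ∧ f = f' := by
  have key : ∀ {g h f : G}, g ∈ Q → h ∈ twoPt G a t → (g * h * t * f)⁻¹ • a = f⁻¹ • (t • a) := by
    intro g h f hg hh
    have h1 : h⁻¹ • a = a := (stabilizer G a).inv_mem hh.1
    rw [mul_inv_rev, mul_inv_rev, mul_inv_rev, t_inv hS, mul_smul, mul_smul, mul_smul,
      Q_fix hS (Q.inv_mem hg), h1]
  have hff : f = f' := inv_injective (Q_unique hS (Q.inv_mem hf) (Q.inv_mem hf') (t_smul_ne hS)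
    (by rw [← key hg hh, ← key hg' hh', e]))
  subst hff
  obtain ⟨h1, h2⟩ := mul_left_cancel_decomp hS hg hg' hh hh' (mul_right_cancel (mul_right_cancel e))
  exact ⟨h1, h2, rfl⟩

theorem conj_Q (hS : Cfsg.IsRankOneSetup G Ω a t Q) {c x : G} (hc : c ∈ twoPt G a t) (hx : x ∈ Q) :
    c⁻¹ * x * c ∈ Q := by
  simpa using hS.conj_mem c⁻¹ ((stabilizer G a).inv_mem hc.1) x hx

end CfsgLib.RankOne
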