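import Cfsg.Agent.Lib.RankOne.InvertedCyclic
import Mathlib.RingTheory.LittleWedderburn

/-!
The rank-one set-up with two commuting involutions: `V = C_D(t)` acts on the involutions fixing `a`
as a group of field automorphisms, so `V / C_V(K)` is cyclic.
-/

set_option autoImplicit false

open MulAction

namespace CfsgLib.RankOne

variable {G Ω : Type*} [Group G] [Finite G] [MulAction G Ω] [FaithfulSMul G Ω] {a : Ω} {t : G}
  {Q : Subgroup G} (hS : Cfsg.IsRankOneSetup G Ω a t Q)
  (h2 : ∃ x y : G, x ≠ 1 ∧ y ≠ 1 ∧ x ≠ y ∧ x * x = 1 ∧ y * y = 1 ∧ x * y = y * x)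

include hS h2

theorem exists_generator_centralizer :
    ∃ v ∈ twoPt G a t ⊓ Subgroup.centralizer {t},
      (twoPt G a t ⊓ Subgroup.centralizer {t} ⊓
          Subgroup.centralizer (Cfsg.invertedBy (twoPt G a t) t)) ⊔ Subgroup.closure {v} =
        twoPt G a t ⊓ Subgroup.centralizer {t} := by
  classical
  let : CommGroup (invSub hS h2) := { (inferInstance : Group (invSub hS h2)) with
    mul_comm := invSub_comm hS h2 }
  let E := Additive (invSub hS h2)
  set φ := invAct hS h2 with hφ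
  let ψ : twoPt G a t →* AddMonoid.End E :=
    { toFun := fun d => MonoidHom.toAdditive (φ d).toMonoidHom
      map_one' := AddMonoidHom.ext fun x => by simp; rfl
      map_mul' := fun d d' => AddMonoidHom.ext fun x => by simp; rfl }
  have hψ : ∀ d x, ψ d x = Additive.ofMul (φ d (Additive.toMul x)) := fun d x => rfl
  obtain ⟨g₀, hg₀, hset, hnormK⟩ := exists_generator_invertedBy hS h2
  set g : twoPt G a t := ⟨g₀, hg₀.1⟩ with hg
  obtain ⟨p, ⟨hp1, hp2, hp3⟩, -⟩ := exists_structure_eq hS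
  set e₀ : E := Additive.ofMul ⟨p.1, Or.inr hp1⟩ with he₀
  have hzp : ∀ k ∈ Subgroup.zpowers g₀, ∃ i : ℕ, g₀ ^ i = k := fun k hk =>
    mem_powers_iff_mem_zpowers.mpr hk
  -- every nonzero vector is the image of the distinguished one under a power of `g`
  have horb : ∀ w : E, w = 0 ∨ ∃ i : ℕ, ψ (g ^ i) e₀ = w := by
    intro w
    refine (em (w = 0)).imp_right fun hw => ?_
    have hwI := (Additive.toMul w).2.resolve_left
      fun h => hw (Additive.toMul.injective (Subtype.ext h))
    obtain ⟨k, ⟨hk, hks⟩, -⟩ := exists_K_conj hS hp1 hwI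
    obtain ⟨i, hi⟩ := hzp k⁻¹ (Subgroup.inv_mem _ ((Set.ext_iff.1 hset k).2 hk))
    refine ⟨i, Additive.toMul.injective (Subtype.ext ?_)⟩
    show ((g ^ i : twoPt G a t) : G) * p.1 * ((g ^ i : twoPt G a t) : G)⁻¹ = _
    rw [SubgroupClass.coe_pow, hi, inv_inv, hks]
  set R := Subring.closure ({ψ g} : Set (AddMonoid.End E)) with hR
  have hgR : ∀ i : ℕ, ψ (g ^ i) ∈ R := fun i => by
    rw [map_pow]; exact R.pow_mem (Subring.subset_closure rfl) i
  have : IsMulCommutative R := Subring.isMulCommutative_closure (by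
    intro u hu v hv
    rw [Set.mem_singleton_iff.1 hu, Set.mem_singleton_iff.1 hv])
  let instR : CommRing R := { (inferInstance : Ring R) with mul_comm := this.is_comm.comm }
  have hcomm : ∀ P ∈ R, ∀ i : ℕ, P * ψ (g ^ i) = ψ (g ^ i) * P := fun P hP i =>
    congrArg Subtype.val (mul_comm (⟨P, hP⟩ : R) ⟨_, hgR i⟩)
  have hdet : ∀ P ∈ R, ∀ P' ∈ R, P e₀ = P' e₀ → P = P' := by
    intro P hP P' hP' h
    refine AddMonoidHom.ext fun w => ?_
    rcases horb w with rfl | ⟨i, rfl⟩
    · exact (map_zero (P : E →+ E)).trans (map_zero (P' : E →+ E)).symm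
    · show (P * ψ (g ^ i)) e₀ = (P' * ψ (g ^ i)) e₀
      rw [hcomm P hP i, hcomm P' hP' i]
      exact congrArg (ψ (g ^ i)) h
  have he₀0 : e₀ ≠ 0 := fun h => hp1.2.1 (congrArg Subtype.val (congrArg Additive.toMul h))
  have : Nontrivial R := ⟨⟨0, 1, fun h => he₀0 (DFunLike.congr_fun (congrArg Subtype.val h) e₀).symm⟩⟩
  have : NoZeroDivisors R := ⟨fun {P P'} hPP => by
    rcases horb ((P : AddMonoid.End E) e₀) with h | ⟨i, hi⟩
    · exact Or.inl (Subtype.ext (hdet _ P.2 _ R.zero_mem h))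
    · refine Or.inr (Subtype.ext ?_)
      have e : (P : AddMonoid.End E) = ψ (g ^ i) := hdet _ P.2 _ (hgR i) hi.symm
      have h := congrArg Subtype.val hPP
      rw [Subring.coe_mul, e, Subring.coe_zero] at h
      have h' := congrArg (fun f => ψ (g ^ i)⁻¹ * f) h
      rwa [← mul_assoc, ← map_mul, inv_mul_cancel, map_one, one_mul, mul_zero] at h'⟩
  have : IsDomain R := NoZeroDivisors.to_isDomain R
  have : Finite R := Finite.of_injective (fun P : R => (P : AddMonoid.End E) e₀)
    fun P P' h => Subtype.ext (hdet _ P.2 _ P'.2 h)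
  have hE2 : ∀ e : E, e + e = 0 := fun e => Additive.toMul.injective (by
    apply Subtype.ext
    rcases (Additive.toMul e).2 with h | h
    · show ((Additive.toMul e : invSub hS h2) : G) * (Additive.toMul e : invSub hS h2) = 1
      rw [h, one_mul]
    · exact h.2.2)
  have : Fact (Nat.Prime 2) := ⟨Nat.prime_two⟩
  have : CharP R 2 := (CharP.charP_iff_prime_eq_zero Nat.prime_two).2 (by
    refine Subtype.ext (AddMonoidHom.ext fun e => ?_)
    have h : ((2 : R) : AddMonoid.End E) = 1 + 1 := by rw [← one_add_one_eq_two]; rfl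
    rw [Nat.cast_ofNat, h]
    exact hE2 e)
  let : Field R := (Finite.isField_of_domain R).toField
  let : Algebra (ZMod 2) R := ZMod.algebra R 2
  set V := twoPt G a t ⊓ Subgroup.centralizer {t} with hV
  let ι : V →* twoPt G a t := Subgroup.inclusion inf_le_left
  -- conjugation by an element of `V` preserves the field
  let cj : V → (AddMonoid.End E →+* AddMonoid.End E) := fun v =>
    { toFun := fun P => ψ (ι v) * P * ψ (ι v)⁻¹
      map_one' := by rw [mul_one, ← map_mul, mul_inv_cancel, map_one]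
      map_mul' := fun P P' => by
        calc ψ (ι v) * (P * P') * ψ (ι v)⁻¹
            = ψ (ι v) * P * (ψ (ι v)⁻¹ * ψ (ι v)) * P' * ψ (ι v)⁻¹ := by
              rw [← map_mul, inv_mul_cancel, map_one, mul_one]; simp only [mul_assoc]
          _ = _ := by simp only [mul_assoc]
      map_zero' := by rw [mul_zero, zero_mul]
      map_add' := fun P P' => by rw [mul_add, add_mul] }
  have hcjR : ∀ v, ∀ P ∈ R, cj v P ∈ R := by
    intro v
    suffices R ≤ R.comap (cj v) from fun P hP => this hP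
    refine (Subring.closure_le).2 (Set.singleton_subset_iff.2 ?_)
    obtain ⟨i, hi⟩ := hzp _ (hnormK v (Subgroup.mem_inf.1 v.2).1 g₀ (Subgroup.mem_zpowers g₀))
    show ψ (ι v) * ψ g * ψ (ι v)⁻¹ ∈ R
    rw [← map_mul, ← map_mul, show ι v * g * (ι v)⁻¹ = g ^ i from Subtype.ext (by
      rw [SubgroupClass.coe_pow]; exact hi.symm)]
    exact hgR i
  let alg : V → (R →ₐ[ZMod 2] R) := fun v =>
    { toRingHom := (cj v).restrict R R (hcjR v)
      commutes' := fun z => RingHom.congr_fun (Subsingleton.elim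
        (((cj v).restrict R R (hcjR v)).comp (algebraMap (ZMod 2) R)) (algebraMap (ZMod 2) R)) z }
  let gal : V →* (R ≃ₐ[ZMod 2] R) :=
    { toFun := fun v => AlgEquiv.ofBijective (alg v)
        (Finite.injective_iff_bijective.1 (alg v).toRingHom.injective)
      map_one' := AlgEquiv.ext fun P => Subtype.ext (by
        show ψ (ι 1) * (P : AddMonoid.End E) * ψ (ι 1)⁻¹ = _
        rw [map_one, inv_one, map_one, one_mul, mul_one]; rfl)
      map_mul' := fun v v' => AlgEquiv.ext fun P => Subtype.ext (by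
        show ψ (ι (v * v')) * (P : AddMonoid.End E) * ψ (ι (v * v'))⁻¹ =
          ψ (ι v) * (ψ (ι v') * P * ψ (ι v')⁻¹) * ψ (ι v)⁻¹
        rw [map_mul, mul_inv_rev, map_mul, map_mul]
        simp only [mul_assoc]) }
  have hker : ∀ v : V, gal v = 1 → (v : G) ∈ twoPt G a t ⊓ Subgroup.centralizer {t} ⊓
      Subgroup.centralizer (Cfsg.invertedBy (twoPt G a t) t) := by
    intro v hv
    have h1 : φ (ι v) = 1 := by
      have hfix : ψ (ι v) e₀ = e₀ := Additive.toMul.injective (Subtype.ext (by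
        show (v : G) * p.1 * (v : G)⁻¹ = p.1
        have hmem : (v : G) ∈ twoPt G a t ⊓ Subgroup.centralizer {p.1} := by
          rw [← centralizer_distinguished hS hp1 hp2 hp3]
          exact v.2
        rw [Subgroup.mem_centralizer_singleton_iff.1 (Subgroup.mem_inf.1 hmem).2,
          mul_inv_cancel_right]))
      have hψ1 : ψ (ι v) = 1 := AddMonoidHom.ext fun w => by
        rcases horb w with rfl | ⟨i, rfl⟩
        · exact map_zero (ψ (ι v) : E →+ E)
        · have h := congrArg Subtype.val (AlgEquiv.congr_fun hv ⟨_, hgR i⟩)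
          have h' : ψ (ι v) * ψ (g ^ i) * ψ (ι v)⁻¹ = ψ (g ^ i) := h
          have h'' : ψ (ι v) * ψ (g ^ i) = ψ (g ^ i) * ψ (ι v) := by
            calc ψ (ι v) * ψ (g ^ i) = ψ (ι v) * ψ (g ^ i) * (ψ (ι v)⁻¹ * ψ (ι v)) := by
                  rw [← map_mul ψ (ι v)⁻¹, inv_mul_cancel, map_one, mul_one]
              _ = ψ (g ^ i) * ψ (ι v) := by rw [← mul_assoc, h']
          show (ψ (ι v) * ψ (g ^ i)) e₀ = ψ (g ^ i) e₀
          rw [h'']
          exact congrArg (ψ (g ^ i)) hfix
      refine MulEquiv.ext fun x => ?_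
      exact congrArg Additive.toMul (DFunLike.congr_fun hψ1 (Additive.ofMul x))
    exact invAct_eq_one hS h2 h1
  clear_value gal
  have : IsCyclic gal.range := inferInstance
  obtain ⟨⟨_, v, rfl⟩, hgen⟩ := IsCyclic.exists_generator (α := gal.range)
  refine ⟨v, v.2, le_antisymm (sup_le inf_le_left ((Subgroup.closure_le _).2
    (Set.singleton_subset_iff.2 v.2))) fun w hw => ?_⟩
  obtain ⟨i, hi⟩ := hgen ⟨gal ⟨w, hw⟩, ⟨_, rfl⟩⟩
  have hi' : gal (v ^ i) = gal ⟨w, hw⟩ := by
    rw [map_zpow]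
    simpa using congrArg Subtype.val hi
  have h1 := hker (⟨w, hw⟩ * (v ^ i)⁻¹) (by rw [map_mul, map_inv, hi', mul_inv_cancel])
  rw [Subgroup.coe_mul, Subgroup.coe_inv, SubgroupClass.coe_zpow] at h1
  have h3 : w = (w * ((v : G) ^ i)⁻¹) * (v : G) ^ i := by group
  rw [h3]
  have h4 : (v : G) ^ i ∈ Subgroup.closure {(v : G)} :=
    Subgroup.zpow_mem _ (Subgroup.subset_closure (Set.mem_singleton (v : G))) i
  exact Subgroup.mul_mem_sup h1 h4

end CfsgLib.RankOne
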