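import Mathlib
import Cfsg.Prelude.Def_LieRecognition
import Cfsg.Agent.Lib.RankOne.Setup

/-! Rank-one set-up: centralisers of subsets of the two-point stabiliser and their fixed points. -/

set_option autoImplicit false

open MulAction

namespace CfsgLib.RankOne

variable {G Ω : Type*} [Group G] [MulAction G Ω] {a : Ω} {t : G} {Q : Subgroup G}
variable (hS : Cfsg.IsRankOneSetup G Ω a t Q)

include hS

theorem exists_Q_centralizer {X : Set G} (hXa : ∀ x ∈ X, x • a = a) {c c' : Ω} (hc : c ≠ a)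
    (hc' : c' ≠ a) (hXc : ∀ x ∈ X, x • c = c) (hXc' : ∀ x ∈ X, x • c' = c') :
    ∃ q ∈ Q, q ∈ Subgroup.centralizer X ∧ q • c = c' := by
  obtain ⟨q, hq, hqc⟩ := Q_exists hS hc hc'
  refine ⟨q, hq, Subgroup.mem_centralizer_iff.2 fun x hx => ?_, hqc⟩
  have hxc : x⁻¹ • c = c := inv_smul_eq_iff.2 (hXc x hx).symm
  have h : (x * q * x⁻¹) • c = q • c := by
    rw [mul_smul, mul_smul, hxc, hqc, hXc' x hx]
  exact mul_inv_eq_iff_eq_mul.1 (Q_unique hS (hS.conj_mem x (hXa x hx) q hq) hq hc h)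

theorem exists_centralizer_move {X : Set G} {e c c' : Ω} (hXe : ∀ x ∈ X, x • e = e)
    (hce : c ≠ e) (hc'e : c' ≠ e) (hXc : ∀ x ∈ X, x • c = c) (hXc' : ∀ x ∈ X, x • c' = c') :
    ∃ h ∈ Subgroup.centralizer X, h • e = e ∧ h • c = c' := by
  have := pretransitive hS
  obtain ⟨g, rfl⟩ := exists_smul_eq G a e
  have hconj : ∀ {d : Ω}, (∀ x ∈ X, x • d = d) →
      ∀ y ∈ (fun x => g⁻¹ * x * g) '' X, y • (g⁻¹ • d) = g⁻¹ • d := by
    rintro d hd _ ⟨x, hx, rfl⟩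
    rw [conj_smul_fix, smul_inv_smul]; exact hd x hx
  obtain ⟨q, hq, hqX, hqc⟩ := exists_Q_centralizer hS (X := (fun x => g⁻¹ * x * g) '' X)
    (c := g⁻¹ • c) (c' := g⁻¹ • c')
    (fun y hy => by simpa using hconj hXe y hy)
    (fun h => hce (by rw [← h, smul_inv_smul])) (fun h => hc'e (by rw [← h, smul_inv_smul]))
    (hconj hXc) (hconj hXc')
  refine ⟨g * q * g⁻¹, Subgroup.mem_centralizer_iff.2 fun x hx => ?_, ?_, ?_⟩
  · have h := Subgroup.mem_centralizer_iff.1 hqX _ ⟨x, hx, rfl⟩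
    calc x * (g * q * g⁻¹) = g * ((g⁻¹ * x * g) * q) * g⁻¹ := by group
      _ = g * (q * (g⁻¹ * x * g)) * g⁻¹ := by rw [h]
      _ = g * q * g⁻¹ * x := by group
  · rw [mul_smul, inv_smul_smul, mul_smul, Q_fix hS hq]
  · rw [mul_smul, mul_smul, hqc, smul_inv_smul]

theorem centralizer_transitive {X : Set G}
    (h3 : ∃ b c d : Ω, b ≠ c ∧ b ≠ d ∧ c ≠ d ∧ ∀ x ∈ X, x • b = b ∧ x • c = c ∧ x • d = d)
    {c c' : Ω} (hXc : ∀ x ∈ X, x • c = c) (hXc' : ∀ x ∈ X, x • c' = c') :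
    ∃ h ∈ Subgroup.centralizer X, h • c = c' := by
  obtain ⟨b₁, b₂, b₃, h12, h13, h23, hb⟩ := h3
  have : ∃ e, (∀ x ∈ X, x • e = e) ∧ c ≠ e ∧ c' ≠ e := by
    by_cases h1 : c = b₁ ∨ c' = b₁
    · by_cases h2 : c = b₂ ∨ c' = b₂
      · refine ⟨b₃, fun x hx => (hb x hx).2.2, ?_, ?_⟩ <;>
          rcases h1 with rfl | rfl <;> rcases h2 with rfl | rfl <;> first | assumption | contradiction
      · push Not at h2; exact ⟨b₂, fun x hx => (hb x hx).2.1, h2.1, h2.2⟩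
    · push Not at h1; exact ⟨b₁, fun x hx => (hb x hx).1, h1.1, h1.2⟩
  obtain ⟨e, hXe, hce, hc'e⟩ := this
  obtain ⟨h, hh, -, hhc⟩ := exists_centralizer_move hS hXe hce hc'e hXc hXc'
  exact ⟨h, hh, hhc⟩

theorem centralizer_two_transitive {X : Set G}
    (h3 : ∃ b c d : Ω, b ≠ c ∧ b ≠ d ∧ c ≠ d ∧ ∀ x ∈ X, x • b = b ∧ x • c = c ∧ x • d = d)
    {b₁ b₂ c₁ c₂ : Ω} (hb₁ : ∀ x ∈ X, x • b₁ = b₁) (hb₂ : ∀ x ∈ X, x • b₂ = b₂)
    (hc₁ : ∀ x ∈ X, x • c₁ = c₁) (hc₂ : ∀ x ∈ X, x • c₂ = c₂) (hb : b₁ ≠ b₂) (hc : c₁ ≠ c₂) :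
    ∃ g ∈ Subgroup.centralizer X, g • b₁ = c₁ ∧ g • b₂ = c₂ := by
  obtain ⟨g, hg, hgb⟩ := centralizer_transitive hS h3 hb₁ hc₁
  have hgb₂ : ∀ x ∈ X, x • (g • b₂) = g • b₂ := fun x hx => by
    rw [← mul_smul, Subgroup.mem_centralizer_iff.1 hg x hx, mul_smul, hb₂ x hx]
  have hne : g • b₂ ≠ c₁ := fun h => hb (smul_left_cancel g (hgb.trans h.symm))
  obtain ⟨k, hk, hk1, hk2⟩ := exists_centralizer_move hS hc₁ hne hc.symm hgb₂ hc₂
  exact ⟨k * g, (Subgroup.centralizer X).mul_mem hk hg, by rw [mul_smul, hgb, hk1],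
    by rw [mul_smul, hk2]⟩

theorem exists_swap_centralizing [Finite G] {X : Set G} (hX : X ⊆ (twoPt G a t : Set G))
    (h3 : ∃ b c d : Ω, b ≠ c ∧ b ≠ d ∧ c ≠ d ∧ ∀ x ∈ X, x • b = b ∧ x • c = c ∧ x • d = d) :
    ∃ u ∈ Subgroup.centralizer X, u * u = 1 ∧ u ≠ 1 ∧ u • a = t • a := by
  obtain ⟨g, hg, hga, hgb⟩ := centralizer_two_transitive hS h3
    (b₁ := a) (b₂ := t • a) (c₁ := t • a) (c₂ := a)
    (fun x hx => ((mem_twoPt hS).1 (hX hx)).1) (fun x hx => ((mem_twoPt hS).1 (hX hx)).2)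
    (fun x hx => ((mem_twoPt hS).1 (hX hx)).2) (fun x hx => ((mem_twoPt hS).1 (hX hx)).1)
    (t_smul_ne hS).symm (t_smul_ne hS)
  obtain ⟨m, hm⟩ := hS.odd_card
  have hgg : g * g ∈ twoPt G a t := by
    rw [mem_twoPt hS]; simp only [mul_smul, hga, hgb]; exact ⟨trivial, trivial⟩
  set n := Nat.card (twoPt G a t) with hn
  have hu : g ^ n • a = t • a := by
    have h : (g * g) ^ m • a = a := ((mem_twoPt hS).1 (pow_mem hgg m)).1
    rw [hm, pow_succ', mul_smul, pow_mul, sq, h, hga]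
  refine ⟨g ^ n, pow_mem hg n, ?_, fun h => t_smul_ne hS (by rw [← hu, h, one_smul]), hu⟩
  rw [← (Commute.refl g).mul_pow]
  exact pow_card_of_mem hgg

theorem exists_conj_into_V [Finite G] {X : Set G} (hX : X ⊆ (twoPt G a t : Set G))
    (h3 : ∃ b c d : Ω, b ≠ c ∧ b ≠ d ∧ c ≠ d ∧ ∀ x ∈ X, x • b = b ∧ x • c = c ∧ x • d = d) :
    ∃ k ∈ Cfsg.invertedBy (twoPt G a t) t, ∀ x ∈ X, (k * x * k⁻¹) * t = t * (k * x * k⁻¹) := by
  obtain ⟨u, hu, hu2, -, hua⟩ := exists_swap_centralizing hS hX h3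
  have hk := mem_K_of_swap hS hu2 hua
  set j := oroot (twoPt G a t) (u * t) with hj
  have hue : u = j * t * j⁻¹ := by
    have := K_swap_eq_conj hS hk
    rwa [mul_assoc u t t, hS.mul_self, mul_one, ← hj] at this
  refine ⟨j⁻¹, invertedBy_inv_mem (invertedBy_oroot_mem hk), fun x hx => ?_⟩
  have h := Subgroup.mem_centralizer_iff.1 hu x hx
  rw [hue] at h
  calc j⁻¹ * x * j⁻¹⁻¹ * t = j⁻¹ * (x * (j * t * j⁻¹)) * j := by group
    _ = j⁻¹ * ((j * t * j⁻¹) * x) * j := by rw [h]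
    _ = t * (j⁻¹ * x * j⁻¹⁻¹) := by group

theorem exists_involution_centralizing [Finite G] {X : Set G} (hX : X ⊆ (twoPt G a t : Set G))
    (h3 : ∃ b c d : Ω, b ≠ c ∧ b ≠ d ∧ c ≠ d ∧ ∀ x ∈ X, x • b = b ∧ x • c = c ∧ x • d = d) :
    ∃ q ∈ Q, q ∈ Subgroup.centralizer X ∧ q ≠ 1 ∧ q * q = 1 := by
  obtain ⟨u, hu, hu2, hu1, -⟩ := exists_swap_centralizing hS hX h3
  obtain ⟨e, he⟩ := involution_fixed_point hS hu2
  have hXe : ∀ x ∈ X, x • e = e := fun x hx => by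
    refine involution_fix_unique hS hu1 hu2 ?_ he
    rw [← mul_smul, ← Subgroup.mem_centralizer_iff.1 hu x hx, mul_smul, he]
  obtain ⟨g, hg, hge⟩ := centralizer_transitive hS h3
    (fun x hx => ((mem_twoPt hS).1 (hX hx)).1) hXe
  have hstab : g⁻¹ * u * g ∈ stabilizer G a := conj_smul_fix.2 (by rw [hge]; exact he)
  have h2 : g⁻¹ * u * g * (g⁻¹ * u * g) = 1 := by
    calc g⁻¹ * u * g * (g⁻¹ * u * g) = g⁻¹ * (u * u) * g := by group
      _ = 1 := by rw [hu2]; group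
  exact ⟨g⁻¹ * u * g, involution_mem_Q hS hstab h2,
    (Subgroup.centralizer X).mul_mem
      ((Subgroup.centralizer X).mul_mem ((Subgroup.centralizer X).inv_mem hg) hu) hg,
    fun h => hu1 (by simpa [mul_assoc] using congrArg (fun z => g * z * g⁻¹) h), h2⟩

theorem exists_decomp_centralizer {X : Set G} (hX : X ⊆ (twoPt G a t : Set G)) {g : G}
    (hg : g ∈ Subgroup.centralizer X) (hga : g • a = a) :
    ∃ q ∈ Subgroup.centralizer X ⊓ Q, ∃ d ∈ Subgroup.centralizer X ⊓ twoPt G a t, q * d = g := by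
  obtain ⟨q, hq, d, hd, rfl⟩ := exists_decomp hS hga
  obtain ⟨hda, hdb⟩ := (mem_twoPt hS).1 hd
  have hqX : q ∈ Subgroup.centralizer X := by
    have hfix : ∀ x ∈ X, x • (q • (t • a)) = q • (t • a) := fun x hx => by
      have h := Subgroup.mem_centralizer_iff.1 hg x hx
      have e : q • (t • a) = (q * d) • (t • a) := by rw [mul_smul, hdb]
      rw [e, ← mul_smul, h, mul_smul, ((mem_twoPt hS).1 (hX hx)).2]
    obtain ⟨r, hr, hrX, hrq⟩ := exists_Q_centralizer hS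
      (fun x hx => ((mem_twoPt hS).1 (hX hx)).1) (t_smul_ne hS)
      (c' := q • (t • a))
      (fun h => t_smul_ne hS (smul_left_cancel q (h.trans (Q_fix hS hq).symm)))
      (fun x hx => ((mem_twoPt hS).1 (hX hx)).2) hfix
    rwa [← Q_unique hS hr hq (t_smul_ne hS) hrq]
  refine ⟨q, Subgroup.mem_inf.2 ⟨hqX, hq⟩, d, Subgroup.mem_inf.2 ⟨?_, hd⟩, rfl⟩
  have := (Subgroup.centralizer X).mul_mem ((Subgroup.centralizer X).inv_mem hqX) hg
  rwa [inv_mul_cancel_left] at this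

theorem fix_three_of_mem_V [Finite G] {X : Set G}
    (hX : X ⊆ ((twoPt G a t ⊓ Subgroup.centralizer {t} : Subgroup G) : Set G)) :
    ∃ b c d : Ω, b ≠ c ∧ b ≠ d ∧ c ≠ d ∧ ∀ x ∈ X, x • b = b ∧ x • c = c ∧ x • d = d := by
  obtain ⟨c, hc⟩ := involution_fixed_point hS hS.mul_self
  refine ⟨a, t • a, c, (t_smul_ne hS).symm, fun h => ?_, fun h => ?_, fun x hx => ?_⟩
  · exact t_smul_ne hS (by rw [h, hc])
  · have h1 := congrArg (fun e => t • e) h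
    simp only [t_smul_t_smul hS, hc] at h1
    exact t_smul_ne hS (by rw [h1, hc])
  · obtain ⟨hxD, hxt⟩ := Subgroup.mem_inf.1 (hX hx)
    refine ⟨((mem_twoPt hS).1 hxD).1, ((mem_twoPt hS).1 hxD).2, ?_⟩
    refine involution_fix_unique hS hS.ne_one hS.mul_self ?_ hc
    rw [← mul_smul, ← Subgroup.mem_centralizer_singleton_iff.1 hxt, mul_smul, hc]

end CfsgLib.RankOne
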