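import Cfsg.Agent.S1128
import Cfsg.Agent.Lib.RankOne.Setup
import Cfsg.Agent.Lib.Transfer.PGroup

/-! The rank-one set-up with two commuting involutions: a fixed-point-free automorphism of prime
order of `Q`, centrality of the involutions of `G_a` when `Q` is nilpotent, strongly real elements. -/

set_option autoImplicit false

open MulAction

namespace CfsgLib.RankOne

variable {G Ω : Type*} [Group G] [Finite G] [MulAction G Ω] [FaithfulSMul G Ω] {a : Ω} {t : G}
  {Q : Subgroup G} (hS : Cfsg.IsRankOneSetup G Ω a t Q)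
  (h2 : ∃ x y : G, x ≠ 1 ∧ y ≠ 1 ∧ x ≠ y ∧ x * x = 1 ∧ y * y = 1 ∧ x * y = y * x)

omit [Finite G] [FaithfulSMul G Ω] in
theorem conj_involution (g : G) {x : G} (h1 : x ≠ 1) (h2 : x * x = 1) :
    g * x * g⁻¹ ≠ 1 ∧ g * x * g⁻¹ * (g * x * g⁻¹) = 1 := by
  refine ⟨fun h => h1 ?_, ?_⟩
  · simpa [mul_assoc] using congrArg (fun z => g⁻¹ * z * g) h
  · calc g * x * g⁻¹ * (g * x * g⁻¹) = g * (x * x) * g⁻¹ := by group
      _ = 1 := by rw [h2]; group

include hS h2

theorem exists_two_involutions :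
    ∃ s ∈ Cfsg.involutionsIn (stabilizer G a : Set G),
      ∃ s' ∈ Cfsg.involutionsIn (stabilizer G a : Set G), s ≠ s' := by
  obtain ⟨x, y, hx1, hy1, hxy, hx2, hy2, hc⟩ := h2
  obtain ⟨c, hc0⟩ := involution_fixed_point hS hx2
  have hyc : y • c = c :=
    involution_fix_unique hS hx1 hx2 (by rw [← mul_smul, hc, mul_smul, hc0]) hc0
  have := pretransitive hS
  obtain ⟨g, hg⟩ := exists_smul_eq G c a
  have key : ∀ z : G, z ≠ 1 → z * z = 1 → z • c = c →
      g * z * g⁻¹ ∈ Cfsg.involutionsIn (stabilizer G a : Set G) := by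
    intro z h1 h2 h3
    refine ⟨?_, conj_involution g h1 h2⟩
    show (g * z * g⁻¹) • a = a
    rw [mul_smul, mul_smul, ← hg, inv_smul_smul, h3]
  exact ⟨_, key x hx1 hx2 hc0, _, key y hy1 hy2 hyc, fun h => hxy (mul_left_cancel (mul_right_cancel h))⟩

theorem exists_K_ne_one : ∃ k ∈ Cfsg.invertedBy (twoPt G a t) t, k ≠ 1 := by
  obtain ⟨s, hs, s', hs', hne⟩ := exists_two_involutions hS h2
  obtain ⟨k, ⟨hk, hks⟩, -⟩ := exists_K_conj hS hs hs'
  refine ⟨k, hk, fun h => hne ?_⟩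
  rw [← hks, h]; group

/-- `Q` has a fixed-point-free automorphism of prime order. -/
theorem exists_fpf_aut : ∃ (φ : Q ≃* Q) (p : ℕ), p.Prime ∧ orderOf φ = p ∧
    MonoidHom.FixedPointFree (φ : Q →* Q) := by
  classical
  obtain ⟨k, hk, hk1⟩ := exists_K_ne_one hS h2
  obtain ⟨p, hp, hpdvd⟩ := (orderOf k).exists_prime_and_dvd (fun h => hk1 (orderOf_eq_one_iff.1 h))
  obtain ⟨hkD, hkt⟩ := (mem_K hS).1 hk
  obtain ⟨n, hn⟩ := hpdvd
  set x := k ^ n with hxdef
  have hxp : orderOf x = p := by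
    rw [hxdef, orderOf_pow_of_dvd (by
      rintro rfl
      have := orderOf_pos k
      omega) ⟨p, by rw [hn, mul_comm]⟩, hn,
      Nat.mul_div_cancel _ (Nat.pos_of_ne_zero (by rintro rfl; have := orderOf_pos k; omega))]
  have hxD : x ∈ twoPt G a t := (twoPt G a t).pow_mem hkD n
  have hxt : t * x * t = x⁻¹ := by
    have h := conj_pow (i := n) (a := t) (b := k)
    rw [t_inv hS, hkt, inv_pow] at h
    exact h.symm
  have hx : x ∈ Cfsg.invertedBy (twoPt G a t) t := (mem_K hS).2 ⟨hxD, hxt⟩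
  have hxa := (Subgroup.mem_inf.1 hxD).1
  let φ : Q ≃* Q :=
    { toFun := fun q => ⟨x * q * x⁻¹, hS.conj_mem x hxa q q.2⟩
      invFun := fun q => ⟨x⁻¹ * q * x, by
        simpa using hS.conj_mem x⁻¹ ((stabilizer G a).inv_mem hxa) q q.2⟩
      left_inv := fun q => Subtype.ext (by simp [mul_assoc])
      right_inv := fun q => Subtype.ext (by simp [mul_assoc])
      map_mul' := fun q r => Subtype.ext (by simp [mul_assoc]) }
  have hφpow : ∀ (i : ℕ) (q : Q), ((φ ^ i) q : G) = x ^ i * q * (x ^ i)⁻¹ := by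
    intro i
    induction i with
    | zero => simp
    | succ i ih =>
      intro q
      rw [pow_succ', MulAut.mul_apply]
      show x * ((φ ^ i) q : G) * x⁻¹ = _
      rw [ih q, pow_succ']
      group
  have hfpf : MonoidHom.FixedPointFree (φ : Q →* Q) := by
    intro q hq
    have hq' : x * (q : G) * x⁻¹ = q := congrArg Subtype.val hq
    have hmem : (q : G) ∈ Q ⊓ Subgroup.centralizer {x} :=
      Subgroup.mem_inf.2 ⟨q.2, Subgroup.mem_centralizer_singleton_iff.2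
        (mul_inv_eq_iff_eq_mul.1 hq').symm⟩
    have hx1 : x ≠ 1 := fun h => hp.ne_one (by rw [← hxp, h, orderOf_one])
    rw [Cfsg.Agent.S1128.result hS h2 x hx hx1, Subgroup.mem_bot] at hmem
    exact Subtype.ext hmem
  refine ⟨φ, p, hp, ?_, hfpf⟩
  haveI : Fact p.Prime := ⟨hp⟩
  refine orderOf_eq_prime ?_ ?_
  · ext q
    rw [hφpow, ← hxp, pow_orderOf_eq_one]
    simp
  · intro h
    obtain ⟨s, hs, hs1, -⟩ := exists_involution hS
    exact hs1 (congrArg Subtype.val (hfpf ⟨s, hs⟩ (by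
      show φ ⟨s, hs⟩ = ⟨s, hs⟩
      rw [h, MulAut.one_apply])))

/-- With `Q` nilpotent the involutions of `G_a` are central in `Q`. -/
theorem involutions_central (hQ : Group.IsNilpotent Q) :
    ∀ s ∈ Cfsg.involutionsIn (stabilizer G a : Set G), s ∈ Q ∧ ∀ x ∈ Q, s * x = x * s := by
  intro s hs
  refine ⟨involution_mem_Q hS hs.1 hs.2.2, ?_⟩
  haveI : Fact (Nat.Prime 2) := ⟨Nat.prime_two⟩
  obtain ⟨P⟩ : Nonempty (Sylow 2 Q) := inferInstance
  have hiff := (Group.isNilpotent_of_finite_tfae (G := Q)).out 0 3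
  haveI : (P : Subgroup Q).Normal := hiff.1 hQ 2 inferInstance P
  have hne := CfsgLib.Transfer.inf_center_ne_bot (N := (P : Subgroup Q))
    (P.ne_bot_of_dvd_card hS.even_card.two_dvd)
  obtain ⟨z, hz, hz1⟩ := (Subgroup.bot_or_exists_ne_one _).resolve_left hne
  obtain ⟨hzP, hzc⟩ := Subgroup.mem_inf.1 hz
  obtain ⟨j, hj⟩ := P.2 ⟨z, hzP⟩
  have hj' : z ^ 2 ^ j = 1 := congrArg Subtype.val hj
  -- a central involution
  obtain ⟨w, hwc, hw1, hw2⟩ : ∃ w : Q, w ∈ Subgroup.center Q ∧ w ≠ 1 ∧ w * w = 1 := by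
    have h2' : 2 ∣ orderOf z := by
      obtain ⟨i, -, hi⟩ := (Nat.dvd_prime_pow Nat.prime_two).1 (orderOf_dvd_of_pow_eq_one hj')
      rcases i with _ | i
      · exact absurd (orderOf_eq_one_iff.1 (by simpa using hi)) hz1
      · exact hi ▸ dvd_pow_self 2 (by omega)
    refine ⟨z ^ (orderOf z / 2), Subgroup.pow_mem _ hzc _, ?_, ?_⟩
    · intro h
      have := orderOf_pos z
      have := Nat.le_of_dvd (Nat.div_pos (Nat.le_of_dvd this h2') two_pos)
        (orderOf_dvd_of_pow_eq_one h)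
      omega
    · rw [← pow_add, ← two_mul, Nat.mul_div_cancel' h2', pow_orderOf_eq_one]
  have hwI : (w : G) ∈ Cfsg.involutionsIn (stabilizer G a : Set G) :=
    ⟨hS.le w.2, fun h => hw1 (Subtype.ext h), congrArg Subtype.val hw2⟩
  obtain ⟨k, ⟨hk, hks⟩, -⟩ := exists_K_conj hS hwI hs
  intro x hx
  have hxk : k * x * k⁻¹ ∈ Q := hS.conj_mem k (Subgroup.mem_inf.1 hk.1).1 x hx
  have hcomm : (k * x * k⁻¹) * (w : G) = (w : G) * (k * x * k⁻¹) :=
    congrArg Subtype.val (Subgroup.mem_center_iff.1 hwc ⟨_, hxk⟩)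
  rw [← hks]
  calc k⁻¹ * (w : G) * k * x = k⁻¹ * ((w : G) * (k * x * k⁻¹)) * k := by group
    _ = k⁻¹ * ((k * x * k⁻¹) * (w : G)) * k := by rw [hcomm]
    _ = x * (k⁻¹ * (w : G) * k) := by group

theorem involutions_mul_closed (hQ : Group.IsNilpotent Q) :
    ∀ s ∈ Cfsg.involutionsIn (stabilizer G a : Set G),
      ∀ s' ∈ Cfsg.involutionsIn (stabilizer G a : Set G),
        s * s' = 1 ∨ s * s' ∈ Cfsg.involutionsIn (stabilizer G a : Set G) := by
  intro s hs s' hs'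
  by_cases h : s * s' = 1
  · exact Or.inl h
  refine Or.inr ⟨(stabilizer G a).mul_mem hs.1 hs'.1, h, ?_⟩
  have hc := (involutions_central hS h2 hQ s hs).2 s' (involution_mem_Q hS hs'.1 hs'.2.2)
  calc s * s' * (s * s') = s * (s' * s) * s' := by group
    _ = s * s * (s' * s') := by rw [← hc]; group
    _ = 1 := by rw [hs.2.2, hs'.2.2, mul_one]

theorem strongly_real (hQ : Group.IsNilpotent Q) {u v : G} (hu1 : u ≠ 1) (hu2 : u * u = 1)
    (hv1 : v ≠ 1) (hv2 : v * v = 1) (hx : (u * v) * (u * v) ≠ 1) :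
    (∃ g : G, ∃ u' ∈ Cfsg.involutionsIn (stabilizer G a : Set G), g * (u * v) * g⁻¹ = u' * t) ∧
      Odd (Nat.card ↥(Subgroup.centralizer {u * v})) := by
  classical
  have hcen := involutions_central hS h2 hQ
  have := pretransitive hS
  obtain ⟨c, hc⟩ := involution_fixed_point hS hu2
  obtain ⟨g, hg⟩ := exists_smul_eq G c a
  set u₁ := g * u * g⁻¹ with hu₁
  set v₁ := g * v * g⁻¹ with hv₁
  have hu₁I : u₁ ∈ Cfsg.involutionsIn (stabilizer G a : Set G) :=
    ⟨show (g * u * g⁻¹) • a = a by rw [mul_smul, mul_smul, ← hg, inv_smul_smul, hc],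
      conj_involution g hu1 hu2⟩
  obtain ⟨hv₁1, hv₁2⟩ := conj_involution g hv1 hv2
  rw [← hv₁] at hv₁1 hv₁2
  have hv₁na : v₁ • a ≠ a := by
    intro h
    have hcc := (hcen _ hu₁I).2 v₁ (involution_mem_Q hS h hv₁2)
    apply hx
    have h3 : u * v = v * u := by
      have := congrArg (fun z => g⁻¹ * z * g) hcc
      simpa [hu₁, hv₁, mul_assoc] using this
    calc u * v * (u * v) = u * (v * u) * v := by group
      _ = u * u * (v * v) := by rw [← h3]; group
      _ = 1 := by rw [hu2, hv2, mul_one]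
  obtain ⟨q, hq, hqv⟩ := Q_exists hS hv₁na (t_smul_ne hS)
  set v₂ := q * v₁ * q⁻¹ with hv₂
  have hv₂a : v₂ • a = t • a := by
    rw [hv₂, mul_smul, mul_smul, show q⁻¹ • a = a from Q_fix hS (Q.inv_mem hq), hqv]
  have hk := mem_K_of_swap hS (conj_involution q hv₁1 hv₁2).2 hv₂a
  set j := oroot (twoPt G a t) (v₂ * t) with hjdef
  have hv₂j : v₂ = j * t * j⁻¹ := by
    rw [hjdef, ← K_swap_eq_conj hS hk, mul_assoc, hS.mul_self, mul_one]
  have hja : j ∈ stabilizer G a :=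
    (Subgroup.mem_inf.1 (invertedBy_oroot_mem hk).1).1
  set u₃ := j⁻¹ * u₁ * j with hu₃
  have hu₃I : u₃ ∈ Cfsg.involutionsIn (stabilizer G a : Set G) :=
    conj_mem_involutionsIn hS hja hu₁I
  have heq : (j⁻¹ * q * g) * (u * v) * (j⁻¹ * q * g)⁻¹ = u₃ * t := by
    have huq : q * u₁ * q⁻¹ = u₁ := by rw [← (hcen _ hu₁I).2 q hq, mul_inv_cancel_right]
    calc (j⁻¹ * q * g) * (u * v) * (j⁻¹ * q * g)⁻¹
        = j⁻¹ * ((q * u₁ * q⁻¹) * v₂) * j := by rw [hu₁, hv₂, hv₁]; group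
      _ = j⁻¹ * u₁ * (j * t * j⁻¹) * j := by rw [huq, hv₂j]; group
      _ = u₃ * t := by rw [hu₃]; group
  refine ⟨⟨_, u₃, hu₃I, heq⟩, ?_⟩
  set g' := j⁻¹ * q * g with hg'
  obtain ⟨hu₃a, hu₃1, hu₃2⟩ := hu₃I
  set y := u₃ * t with hy
  have hy2 : y * y ≠ 1 := fun h => hx (by
    rw [← heq] at h
    simpa [mul_assoc] using congrArg (fun z => g'⁻¹ * z * g') h)
  have hcard : Nat.card ↥(Subgroup.centralizer {u * v}) = Nat.card ↥(Subgroup.centralizer {y}) := by
    refine Nat.card_congr ((MulAut.conj g').toEquiv.subtypeEquiv fun z => ?_)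
    show z ∈ Subgroup.centralizer {u * v} ↔ g' * z * g'⁻¹ ∈ Subgroup.centralizer {y}
    rw [Subgroup.mem_centralizer_singleton_iff, Subgroup.mem_centralizer_singleton_iff, ← heq]
    constructor
    · intro h
      calc g' * z * g'⁻¹ * (g' * (u * v) * g'⁻¹) = g' * (z * (u * v)) * g'⁻¹ := by group
        _ = g' * ((u * v) * z) * g'⁻¹ := by rw [h]
        _ = _ := by group
    · intro h
      have := congrArg (fun w => g'⁻¹ * w * g') h
      simpa [mul_assoc] using this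
  rw [hcard, ← Nat.not_even_iff_odd]
  intro hev
  haveI : Fact (Nat.Prime 2) := ⟨Nat.prime_two⟩
  set C := Subgroup.centralizer ({y} : Set G) with hC
  have : Fintype C := Fintype.ofFinite _
  let T := {z : C // z * z = 1}
  have hTeven : 2 ∣ Fintype.card T := by
    let σ : Equiv.Perm C := Equiv.inv C
    have hσ : σ ^ 2 ^ 1 = 1 := by ext z; simp [σ, sq]
    have h := Equiv.Perm.card_compl_support_modEq hσ
    have hT : σ.supportᶜ.card = Fintype.card T := by
      rw [Fintype.card_subtype]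
      congr 1
      ext z
      simp [σ, inv_eq_iff_mul_eq_one]
    rw [hT] at h
    exact Nat.modEq_zero_iff_dvd.1 (h.trans (Nat.modEq_zero_iff_dvd.2 (by
      rw [← Nat.card_eq_fintype_card]; exact hev.two_dvd)))
  have hconj : ∀ z : G, z ∈ C → u₃ * z * u₃ ∈ C := by
    intro z hz
    have hinv : u₃ * y * u₃ = y⁻¹ := by
      rw [hy, mul_inv_rev, t_inv hS, inv_of_mul_self hu₃2, ← mul_assoc u₃ u₃, hu₃2, one_mul]
    have hzy : Commute z y := Subgroup.mem_centralizer_singleton_iff.1 hz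
    have h1 : Commute (u₃ * z * u₃) (u₃ * y * u₃) := by
      show u₃ * z * u₃ * (u₃ * y * u₃) = u₃ * y * u₃ * (u₃ * z * u₃)
      calc u₃ * z * u₃ * (u₃ * y * u₃) = u₃ * z * (u₃ * u₃) * y * u₃ := by group
        _ = u₃ * (z * y) * u₃ := by rw [hu₃2]; group
        _ = u₃ * y * (u₃ * u₃) * z * u₃ := by rw [hzy.eq, hu₃2]; group
        _ = _ := by group
    rw [hinv] at h1
    exact Subgroup.mem_centralizer_singleton_iff.2 (Commute.inv_right_iff.1 h1)
  have hzz : ∀ z : G, u₃ * (u₃ * z * u₃) * u₃ = z := fun z => by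
    calc u₃ * (u₃ * z * u₃) * u₃ = (u₃ * u₃) * z * (u₃ * u₃) := by group
      _ = z := by rw [hu₃2, one_mul, mul_one]
  let τ : Equiv.Perm T :=
    Function.Involutive.toPerm (fun z => ⟨⟨u₃ * z.1.1 * u₃, hconj _ z.1.2⟩, Subtype.ext (by
      show u₃ * z.1.1 * u₃ * (u₃ * z.1.1 * u₃) = 1
      calc u₃ * z.1.1 * u₃ * (u₃ * z.1.1 * u₃) = u₃ * z.1.1 * (u₃ * u₃) * z.1.1 * u₃ := by group
        _ = u₃ * (z.1.1 * z.1.1) * u₃ := by rw [hu₃2]; group
        _ = 1 := by rw [show z.1.1 * z.1.1 = 1 from congrArg Subtype.val z.2, mul_one, hu₃2])⟩)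
      (fun z => Subtype.ext (Subtype.ext (hzz _)))
  have hτ : τ ^ 2 ^ 1 = 1 := by
    rw [pow_one, sq]
    exact Equiv.ext fun z => Subtype.ext (Subtype.ext (hzz z.1.1))
  obtain ⟨b, hb, hb1⟩ := Equiv.Perm.exists_fixed_point_of_prime' hTeven hτ
    (a := ⟨1, one_mul 1⟩) (Subtype.ext (Subtype.ext (show u₃ * 1 * u₃ = 1 by rw [mul_one, hu₃2])))
  have hb' : u₃ * b.1.1 * u₃ = b.1.1 := congrArg (fun z : T => z.1.1) hb
  have hbne : b.1.1 ≠ 1 := fun h => hb1 (Subtype.ext (Subtype.ext h))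
  have hb2 : b.1.1 * b.1.1 = 1 := congrArg Subtype.val b.2
  have hcu : Commute b.1.1 u₃ := by
    show b.1.1 * u₃ = u₃ * b.1.1
    conv_lhs => rw [← hb', mul_assoc, hu₃2, mul_one]
  have hba := mem_stab_of_commute hS (involution_mem_Q hS hu₃a hu₃2) hu₃1 hcu
  have hbQ := involution_mem_Q hS hba hb2
  have hyb : Commute y b.1.1 := (Subgroup.mem_centralizer_singleton_iff.1 b.1.2).symm
  have hya := mem_stab_of_commute hS hbQ hbne hyb
  have : t ∈ stabilizer G a := by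
    have h := (stabilizer G a).mul_mem hu₃a hya
    rwa [hy, ← mul_assoc, hu₃2, one_mul] at h
  exact hS.not_mem this

end CfsgLib.RankOne
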