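import Cfsg.Agent.Lib.OddTransitive.Fitting
import Cfsg.Agent.Lib.RankOne.Nilpotent
import Cfsg.Agent.S1127
import Cfsg.Agent.S1129
import Mathlib.FieldTheory.Finite.Basic

/-!
The rank-one set-up with two commuting involutions: the elements of the two-point stabiliser
inverted by `t` form a cyclic normal subgroup `K`, and `V / C_V(K)` is cyclic for `V = C_D(t)`.
-/

set_option autoImplicit false

open MulAction
open scoped commutatorElement

namespace CfsgLib.RankOne

variable {G Ω : Type*} [Group G] [Finite G] [MulAction G Ω] [FaithfulSMul G Ω] {a : Ω} {t : G}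
  {Q : Subgroup G} (hS : Cfsg.IsRankOneSetup G Ω a t Q)
  (h2 : ∃ x y : G, x ≠ 1 ∧ y ≠ 1 ∧ x ≠ y ∧ x * x = 1 ∧ y * y = 1 ∧ x * y = y * x)

/-- The group formed by the involutions fixing `a`. -/
def invSub : Subgroup G where
  carrier := {x | x = 1 ∨ x ∈ Cfsg.involutionsIn (stabilizer G a : Set G)}
  one_mem' := Or.inl rfl
  mul_mem' {x y} hx hy := by
    rcases hx with rfl | hx
    · simpa using hy
    rcases hy with rfl | hy
    · simpa using Or.inr hx
    exact involutions_mul_closed hS h2 (Cfsg.Agent.S1129.result hS h2) x hx y hy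
  inv_mem' {x} hx := by
    rcases hx with rfl | hx
    · exact Or.inl inv_one
    · exact Or.inr (by rw [inv_of_mul_self hx.2.2]; exact hx)

theorem mem_invSub {x : G} :
    x ∈ invSub hS h2 ↔ x = 1 ∨ x ∈ Cfsg.involutionsIn (stabilizer G a : Set G) := Iff.rfl

theorem twoPt_le_normalizer : twoPt G a t ≤ Subgroup.normalizer (invSub hS h2 : Set G) := by
  have key : ∀ g ∈ stabilizer G a, ∀ x ∈ invSub hS h2, g⁻¹ * x * g ∈ invSub hS h2 := by
    intro g hg x hx
    rcases hx with rfl | hx
    · exact Or.inl (by group)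
    · exact Or.inr (conj_mem_involutionsIn hS hg hx)
  intro d hd
  rw [Subgroup.mem_normalizer_iff]
  intro x
  refine ⟨fun hx => ?_, fun hx => ?_⟩
  · simpa using key d⁻¹ ((stabilizer G a).inv_mem hd.1) x hx
  · simpa [mul_assoc] using key d hd.1 _ hx

/-- The conjugation action on the group of involutions fixing `a`. -/
noncomputable def invAct : twoPt G a t →* MulAut (invSub hS h2) :=
  (invSub hS h2).normalizerMonoidHom.comp (Subgroup.inclusion (twoPt_le_normalizer hS h2))

theorem invAct_apply (d : twoPt G a t) (x : invSub hS h2) :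
    (invAct hS h2 d x : G) = (d : G) * x * (d : G)⁻¹ := rfl

theorem invAct_eq_one {d : twoPt G a t} (h : invAct hS h2 d = 1) :
    (d : G) ∈ twoPt G a t ⊓ Subgroup.centralizer {t} ⊓
      Subgroup.centralizer (Cfsg.invertedBy (twoPt G a t) t) := by
  refine (Cfsg.Agent.S1127.result hS).2.symm ▸ Subgroup.mem_inf.2 ⟨d.2, ?_⟩
  rw [Subgroup.mem_centralizer_iff]
  intro x hx
  have h1 := invAct_apply hS h2 d ⟨x, Or.inr hx⟩
  rw [h, MulAut.one_apply] at h1
  exact (mul_inv_eq_iff_eq_mul.1 h1.symm).symm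

theorem invAct_of_mem_W {d : twoPt G a t}
    (h : (d : G) ∈ twoPt G a t ⊓ Subgroup.centralizer {t} ⊓
      Subgroup.centralizer (Cfsg.invertedBy (twoPt G a t) t)) : invAct hS h2 d = 1 := by
  have h' := (Cfsg.Agent.S1127.result hS).2 ▸ h
  refine MulEquiv.ext fun x => Subtype.ext ?_
  rw [invAct_apply, MulAut.one_apply]
  rcases x.2 with hx | hx
  · rw [hx]; group
  · rw [← Subgroup.mem_centralizer_iff.1 (Subgroup.mem_inf.1 h').2 _ hx, mul_inv_cancel_right]

/-- The additive action of a group of automorphisms. -/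
@[reducible] def addAct {M : Type*} [Group M] (H : Subgroup (MulAut M)) :
    DistribMulAction H (Additive M) where
  smul h x := Additive.ofMul ((h : MulAut M) x.toMul)
  one_smul _ := rfl
  mul_smul _ _ _ := rfl
  smul_zero h := congrArg Additive.ofMul (map_one (h : MulAut M))
  smul_add h x y := congrArg Additive.ofMul (map_mul (h : MulAut M) x.toMul y.toMul)

include hS h2

theorem invSub_comm (x y : invSub hS h2) : x * y = y * x := by
  apply Subtype.ext
  rcases x.2 with hx | hx
  · simp [hx]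
  rcases y.2 with hy | hy
  · simp [hy]
  exact (involutions_central hS h2 (Cfsg.Agent.S1129.result hS h2) _ hx).2 _
    (involution_mem_Q hS hy.1 hy.2.2)

/-- `K` is generated by one element, and is normalised by the two-point stabiliser. -/
theorem exists_generator_invertedBy : ∃ g ∈ Cfsg.invertedBy (twoPt G a t) t,
    (Subgroup.zpowers g : Set G) = Cfsg.invertedBy (twoPt G a t) t ∧
      ∀ d ∈ twoPt G a t, ∀ k ∈ Subgroup.zpowers g, d * k * d⁻¹ ∈ Subgroup.zpowers g := by
  classical
  obtain ⟨s, hs, s', hs', hne⟩ := exists_two_involutions hS h2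
  set φ := invAct hS h2 with hφ
  let E := Additive (invSub hS h2)
  let : CommGroup (invSub hS h2) := { (inferInstance : Group (invSub hS h2)) with
    mul_comm := invSub_comm hS h2 }
  let : DistribMulAction φ.range E := addAct φ.range
  have : FaithfulSMul φ.range E := ⟨fun {u v} h => Subtype.ext (MulEquiv.ext fun x =>
    congrArg Additive.toMul (h (Additive.ofMul x)))⟩
  have : Nontrivial E := ⟨⟨Additive.ofMul ⟨s, Or.inr hs⟩, Additive.ofMul ⟨s', Or.inr hs'⟩,
    fun h => hne (congrArg Subtype.val (Additive.ofMul.injective h))⟩⟩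
  have hE2 : ∀ e : E, 2 • e = 0 := fun e => Additive.toMul.injective (by
    apply Subtype.ext
    rw [toMul_nsmul, SubgroupClass.coe_pow, sq]
    rcases (Additive.toMul e).2 with h | h
    · rw [h, one_mul]; rfl
    · exact h.2.2)
  have hodd : Odd (Nat.card φ.range) := hS.odd_card.of_dvd_nat (Subgroup.card_range_dvd φ)
  have htrans : ∀ u v : E, u ≠ 0 → v ≠ 0 → ∃ d : φ.range, d • u = v := by
    intro u v hu hv
    have key : ∀ w : E, w ≠ 0 → ((Additive.toMul w : invSub hS h2) : G) ∈
        Cfsg.involutionsIn (stabilizer G a : Set G) := fun w hw =>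
      (Additive.toMul w).2.resolve_left fun h => hw (Additive.toMul.injective (Subtype.ext h))
    obtain ⟨k, ⟨hk, hks⟩, -⟩ := exists_K_conj hS (key u hu) (key v hv)
    have hkD : k ∈ twoPt G a t := hk.1
    refine ⟨⟨φ ⟨k⁻¹, (twoPt G a t).inv_mem hkD⟩, ⟨_, rfl⟩⟩,
      Additive.toMul.injective (Subtype.ext ?_)⟩
    show k⁻¹ * ((Additive.toMul u : invSub hS h2) : G) * k⁻¹⁻¹ = _
    rw [inv_inv, hks]
  obtain ⟨hFc, hFfpf, hcomm⟩ := CfsgLib.OddTransitive.fitting_structure hodd Nat.prime_two hE2 htrans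
  set F := Cfsg.fittingSubgroup φ.range with hF
  have hFn : F.Normal := Subgroup.sSup_normal _ fun N hN => hN.1
  have hq : ∀ u v : φ.range ⧸ F, u * v = v * u := by
    intro u v
    induction u using QuotientGroup.induction_on with | _ u => ?_
    induction v using QuotientGroup.induction_on with | _ v => ?_
    rw [← QuotientGroup.mk_mul, ← QuotientGroup.mk_mul, QuotientGroup.eq]
    refine hcomm ?_
    rw [show (u * v)⁻¹ * (v * u) = ⁅v⁻¹, u⁻¹⁆ by rw [commutatorElement_def]; group]
    exact Subgroup.commutator_mem_commutator (Subgroup.mem_top _) (Subgroup.mem_top _)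
  -- the map to the abelian quotient
  let α : twoPt G a t →* φ.range ⧸ F := (QuotientGroup.mk' F).comp φ.rangeRestrict
  let c : twoPt G a t →* twoPt G a t :=
    { toFun := fun x => ⟨t * x * t, t_conj_mem hS x.2⟩
      map_one' := Subtype.ext (by simp [hS.mul_self])
      map_mul' := fun x y => Subtype.ext (by
        show t * ((x : G) * y) * t = t * x * t * (t * y * t)
        calc t * ((x : G) * y) * t = t * x * (t * t) * y * t := by rw [hS.mul_self]; group
          _ = t * x * t * (t * y * t) := by group) }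
  have hcK : ∀ k : twoPt G a t, (k : G) ∈ Cfsg.invertedBy (twoPt G a t) t → c k = k⁻¹ :=
    fun k hk => Subtype.ext ((mem_K hS).1 hk).2
  have hcV : ∀ v : twoPt G a t, Commute (v : G) t → c v = v := fun v hv => Subtype.ext (by
    show t * (v : G) * t = v
    rw [← hv.eq, mul_assoc, hS.mul_self, mul_one])
  have hnorm : ∀ x ∈ twoPt G a t, t * x * t ∈ twoPt G a t := fun x hx => t_conj_mem hS hx
  -- the fixed part of a product of two inverted elements centralises the involutions
  have step : ∀ k k' : twoPt G a t, (k : G) ∈ Cfsg.invertedBy (twoPt G a t) t →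
      (k' : G) ∈ Cfsg.invertedBy (twoPt G a t) t → φ k * φ k' = φ k' * φ k ∧
      ∃ l : twoPt G a t, (l : G) ∈ Cfsg.invertedBy (twoPt G a t) t ∧ φ k * φ k' = φ l := by
    intro k k' hk hk'
    obtain ⟨v, z, hv, hvt, hz, he⟩ := exists_factor hS.odd_card hS.mul_self hnorm
      ((twoPt G a t).mul_mem k.2 k'.2)
    set v' : twoPt G a t := ⟨v, hv⟩ with hv'
    set z' : twoPt G a t := ⟨z, hz.1⟩ with hz'
    have he' : k * k' = v' * z' := Subtype.ext he
    have h1 : α v' * α v' = 1 := by
      have e1 : α k * α k' = α v' * α z' := by rw [← map_mul, he', map_mul]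
      have e2 : α k⁻¹ * α k'⁻¹ = α v' * α z'⁻¹ := by
        have h := congrArg (fun x => α (c x)) he'
        simpa only [map_mul, hcK k hk, hcK k' hk', hcV v' hvt, hcK z' hz] using h
      rw [map_inv, map_inv, map_inv, hq (α k)⁻¹, ← mul_inv_rev, e1, mul_inv_rev, hq (α z')⁻¹] at e2
      have h := mul_right_cancel e2
      exact (eq_inv_iff_mul_eq_one.1 h.symm)
    have h2' : α v' = 1 := by
      have hN : Odd (Nat.card (φ.range ⧸ F)) :=
        hodd.of_dvd_nat (Subgroup.card_quotient_dvd_card F)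
      refine orderOf_eq_one_iff.1 (Nat.dvd_one.1 ?_)
      rw [← (Nat.coprime_two_left.2 hN : Nat.gcd 2 _ = 1)]
      exact Nat.dvd_gcd (orderOf_dvd_of_pow_eq_one (by rw [sq, h1])) (orderOf_dvd_natCard _)
    have h3 : φ.rangeRestrict v' ∈ F := (QuotientGroup.eq_one_iff _).1 h2'
    have h4 : φ v' = 1 := by
      obtain ⟨p, ⟨hp1, hp2, hp3⟩, -⟩ := exists_structure_eq hS
      by_contra hne1
      have hv1 : v ∈ twoPt G a t ⊓ Subgroup.centralizer {p.1} := by
        rw [← centralizer_distinguished hS hp1 hp2 hp3]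
        exact Subgroup.mem_inf.2 ⟨hv, Subgroup.mem_centralizer_singleton_iff.2 hvt⟩
      have hne2 : φ.rangeRestrict v' ≠ 1 := fun h => hne1 (congrArg Subtype.val h)
      have hfix : φ.rangeRestrict v' • (Additive.ofMul ⟨p.1, Or.inr hp1⟩ : E) =
          Additive.ofMul ⟨p.1, Or.inr hp1⟩ := Additive.toMul.injective (Subtype.ext (by
        show v * p.1 * v⁻¹ = p.1
        rw [Subgroup.mem_centralizer_singleton_iff.1 (Subgroup.mem_inf.1 hv1).2, mul_inv_cancel_right]))
      exact hp1.2.1 (congrArg Subtype.val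
        (congrArg Additive.toMul (hFfpf _ h3 hne2 _ hfix) : (⟨p.1, Or.inr hp1⟩ : invSub hS h2) = 1))
    have e1 : φ k * φ k' = φ z' := by rw [← map_mul, he', map_mul, h4, one_mul]
    refine ⟨?_, z', hz, e1⟩
    have e2 : φ k⁻¹ * φ k'⁻¹ = φ z'⁻¹ := by
      have h := congrArg (fun x => φ (c x)) he'
      simpa only [map_mul, hcK k hk, hcK k' hk', hcV v' hvt, hcK z' hz, h4, one_mul] using h
    rw [map_inv, map_inv, map_inv, ← e1, ← mul_inv_rev, inv_inj] at e2
    exact e2.symm
  -- the image of `K` is an abelian normal subgroup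
  let Y : Subgroup φ.range :=
    { carrier := {y | ∃ k : twoPt G a t, (k : G) ∈ Cfsg.invertedBy (twoPt G a t) t ∧ (y : MulAut (invSub hS h2)) = φ k}
      one_mem' := ⟨1, one_mem_invertedBy, by rw [map_one]; rfl⟩
      mul_mem' := fun {y y'} ⟨k, hk, hy⟩ ⟨k', hk', hy'⟩ => by
        obtain ⟨-, l, hl, hkl⟩ := step k k' hk hk'
        exact ⟨l, hl, by rw [Subgroup.coe_mul, hy, hy', hkl]⟩
      inv_mem' := fun {y} ⟨k, hk, hy⟩ =>
        ⟨k⁻¹, invertedBy_inv_mem hk, by rw [Subgroup.coe_inv, hy, map_inv]⟩ }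
  have hYc : ∀ y y' : Y, y * y' = y' * y := by
    rintro ⟨y, k, hk, hy⟩ ⟨y', k', hk', hy'⟩
    refine Subtype.ext (Subtype.ext ?_)
    show (y : MulAut (invSub hS h2)) * y' = y' * y
    rw [hy, hy', (step k k' hk hk').1]
  have hYn : Y.Normal := by
    refine ⟨fun y ⟨k, hk, hy⟩ g => ?_⟩
    obtain ⟨d, hd⟩ := g.2
    obtain ⟨v, z, hv, hvt, hz, he⟩ := exists_factor hS.odd_card hS.mul_self hnorm d.2
    set v' : twoPt G a t := ⟨v, hv⟩ with hv'
    set z' : twoPt G a t := ⟨z, hz.1⟩ with hz'
    have he' : d = v' * z' := Subtype.ext he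
    refine ⟨v' * k * v'⁻¹, conj_mem_invertedBy hvt hv hk, ?_⟩
    rw [Subgroup.coe_mul, Subgroup.coe_mul, Subgroup.coe_inv, ← hd, hy, he', map_mul, map_mul,
      map_mul, map_inv]
    rw [mul_assoc (φ v'), (step z' k hz hk).1, mul_inv_rev]
    group
  have hYF : Y ≤ F := le_sSup ⟨hYn,
    letI : CommGroup Y := { (inferInstance : Group Y) with mul_comm := hYc }
    inferInstance⟩
  have hYcyc : IsCyclic Y :=
    isCyclic_of_injective (Subgroup.inclusion hYF) (Subgroup.inclusion_injective hYF)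
  obtain ⟨⟨y, g, hg, hy⟩, hgen⟩ := hYcyc.exists_generator
  have hall : (Subgroup.zpowers (g : G) : Set G) = Cfsg.invertedBy (twoPt G a t) t := by
    refine Set.Subset.antisymm ?_ fun k hk => ?_
    · rintro w ⟨i, rfl⟩
      obtain ⟨j, hj | hj⟩ := i.eq_nat_or_neg
      · rw [hj]; simpa using invertedBy_pow_mem hg j
      · rw [hj]; simpa using invertedBy_inv_mem (invertedBy_pow_mem hg j)
    · obtain ⟨i, hi⟩ := hgen ⟨⟨φ ⟨k, hk.1⟩, ⟨_, rfl⟩⟩, ⟨k, hk.1⟩, hk, rfl⟩
      have hi' : φ (g ^ i) = φ ⟨k, hk.1⟩ := by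
        rw [map_zpow, ← hy]
        exact congrArg (fun w : Y => ((w : φ.range) : MulAut (invSub hS h2))) hi
      have hgi : (g : G) ^ i ∈ Cfsg.invertedBy (twoPt G a t) t := by
        obtain ⟨j, hj | hj⟩ := i.eq_nat_or_neg
        · rw [hj]; simpa using invertedBy_pow_mem hg j
        · rw [hj]; simpa using invertedBy_inv_mem (invertedBy_pow_mem hg j)
      have hW := invAct_eq_one hS h2 (d := ⟨k, hk.1⟩ * (g ^ i)⁻¹)
        (by rw [map_mul, map_inv, hi', mul_inv_cancel])
      have h1 : k = (k * ((g : G) ^ i)⁻¹) * (g : G) ^ i := by group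
      obtain ⟨-, h3⟩ := factor_unique hS.odd_card hS.mul_self
        (Subgroup.mem_centralizer_singleton_iff.1 (Subgroup.mem_inf.1 (Subgroup.mem_inf.1 hW).1).2)
        hgi h1 (Commute.one_left t) hk (one_mul k).symm
      exact ⟨i, h3⟩
  refine ⟨(g : G), hg, hall, fun d hd k hk => ?_⟩
  obtain ⟨v, z, hv, hvt, hz, rfl⟩ := exists_factor hS.odd_card hS.mul_self hnorm hd
  have hz' : z ∈ Subgroup.zpowers (g : G) := (Set.ext_iff.1 hall z).2 hz
  have h1 : z * k * z⁻¹ = k := by
    obtain ⟨i, rfl⟩ := hz'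
    obtain ⟨j, rfl⟩ := hk
    show (g : G) ^ i * (g : G) ^ j * ((g : G) ^ i)⁻¹ = (g : G) ^ j
    rw [(Commute.zpow_zpow (Commute.refl (g : G)) i j).eq, mul_inv_cancel_right]
  rw [show v * z * k * (v * z)⁻¹ = v * (z * k * z⁻¹) * v⁻¹ by group, h1]
  exact (Set.ext_iff.1 hall _).2 (conj_mem_invertedBy hvt hv ((Set.ext_iff.1 hall k).1 hk))

end CfsgLib.RankOne
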